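import Mathlib.RingTheory.TensorProduct.IsBaseChangePi
import Mathlib.RingTheory.IsTensorProduct
import Mathlib.RingTheory.Flat.Basic
import Mathlib.LinearAlgebra.TensorProduct.RightExactness

/-!
# Kernels and flat base change
-/

set_option autoImplicit false

universe u

open TensorProduct

namespace GenDescLib

/-- The kernel of the base change of a linear map along a flat algebra is spanned by the kernel. -/
theorem mem_span_ker_of_flat {A A' : Type u} [CommRing A] [CommRing A'] [Algebra A A'] [Module.Flat A A']
    {P Q P' Q' : Type u} [AddCommGroup P] [Module A P] [AddCommGroup Q] [Module A Q]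
    [AddCommGroup P'] [Module A P'] [Module A' P'] [IsScalarTower A A' P']
    [AddCommGroup Q'] [Module A Q'] [Module A' Q'] [IsScalarTower A A' Q']
    {kP : P →ₗ[A] P'} (hP : IsBaseChange A' kP) {kQ : Q →ₗ[A] Q'} (hQ : IsBaseChange A' kQ)
    (L : P →ₗ[A] Q) (L' : P' →ₗ[A'] Q') (hL : ∀ x, L' (kP x) = kQ (L x)) (y : P') (hy : L' y = 0) :
    y ∈ Submodule.span A' (kP '' (LinearMap.ker L : Set P)) := by
  obtain ⟨z, rfl⟩ := hP.equiv.surjective y
  have h1 : ∀ t, hQ.equiv (L.lTensor A' t) = L' (hP.equiv t) := fun t => by
    induction t using TensorProduct.induction_on with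
    | zero => simp
    | tmul a x => simp [IsBaseChange.equiv_tmul, map_smul, hL]
    | add a b ha hb => simp [map_add, ha, hb]
  have hz : L.lTensor A' z = 0 := hQ.equiv.injective (by rw [h1, hy, map_zero])
  obtain ⟨t, rfl⟩ := ((Module.Flat.lTensor_exact A' (LinearMap.exact_subtype_ker_map L)) z).1 hz
  clear hy hz
  induction t using TensorProduct.induction_on with
  | zero => simp
  | tmul a x =>
    rw [LinearMap.lTensor_tmul, IsBaseChange.equiv_tmul]
    exact Submodule.smul_mem _ a (Submodule.subset_span ⟨x.1, x.2, rfl⟩)
  | add a b ha hb => rw [map_add, map_add]; exact Submodule.add_mem _ ha hb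

/-- Base change of modules over a cocartesian square of rings. -/
theorem isBaseChange_of_isPushout {A A' B B' : Type u} [CommRing A] [CommRing A'] [CommRing B] [CommRing B']
    [Algebra A A'] [Algebra A B] [Algebra A' B'] [Algebra B B'] [Algebra A B'] [IsScalarTower A A' B']
    [IsScalarTower A B B'] [Algebra.IsPushout A A' B B']
    {P P' : Type u} [AddCommGroup P] [Module A P] [Module B P] [IsScalarTower A B P]
    [AddCommGroup P'] [Module A P'] [Module A' P'] [Module B P'] [Module B' P'] [IsScalarTower A A' P']
    [IsScalarTower A B P'] [IsScalarTower B B' P'] [IsScalarTower A' B' P']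
    (ψ : P →ₗ[B] P') (hψ : IsBaseChange B' ψ) : IsBaseChange A' (ψ.restrictScalars A) := by
  refine IsBaseChange.of_equiv
    ((Algebra.IsPushout.cancelBaseChange A A' B B' P).symm ≪≫ₗ hψ.equiv.restrictScalars A') fun x => ?_
  simp [IsBaseChange.equiv_tmul]

end GenDescLib
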