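import Groth.Agent.GenDescLib.FibObj

/-!
# Changing the object on the base
-/

set_option autoImplicit false
set_option linter.style.haveILetI false
set_option backward.isDefEq.respectTransparency false
set_option backward.isDefEq.respectTransparency.types false

universe u

open CategoryTheory CategoryTheory.Limits AlgebraicGeometry AlgSp FibCat FibLib AlgStLib IsoNatLib IsoNatSepLib Opposite StMod
open CategoryTheory.Functor (Fiber IsPreFibered IsStronglyCartesian)

noncomputable section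

namespace GenDescLib

variable {S : Scheme.{u}} {𝒳 𝒴 : AlgSt.Cat S} {f : 𝒳 ⥤ᵇ 𝒴}

/-- The functor between categories over objects given by a morphism of objects. -/
def fibMap (f : 𝒳 ⥤ᵇ 𝒴) {η' η : 𝒴.obj} (m : η' ⟶ η) : fibCat f η' ⥤ᵇ fibCat f η where
  toFunctor := CostructuredArrow.map m
  w := rfl

/-- The morphism of schemes from an object over `η` to `η`. -/
def fibBase {η : 𝒴.obj} (x : (fibCat f η).obj) : sch (fibCat f η) x ⟶ sch 𝒴 η :=
  (baseOver f x.left x.hom).left

@[reassoc]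
theorem bmap_fibBase {η : 𝒴.obj} {x x' : (fibCat f η).obj} (φ : x' ⟶ x) :
    bmap (fibCat f η) φ ≫ fibBase x = fibBase x' := by
  show bmap 𝒳 φ.left ≫ (baseOver f x.left x.hom).left = (baseOver f x'.left x'.hom).left
  rw [bmap_comp_baseOver_left, show f.map φ.left ≫ x.hom = x'.hom from CostructuredArrow.w φ]

theorem fibBase_fibMap {η' η : 𝒴.obj} (m : η' ⟶ η) (x : (fibCat f η').obj) :
    fibBase ((fibMap f m).obj x) = fibBase x ≫ bmap 𝒴 m := by
  show (baseOver f x.left (x.hom ≫ m)).left = _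
  rw [baseOver_comp]
  rfl

theorem lift_baseOver {η : 𝒴.obj} (x : (fibCat f η).obj) :
    𝒴.p.IsHomLift (baseOver f x.left x.hom) x.hom :=
  IsHomLift.of_fac' 𝒴.p _ _ (f.w_obj x.left) rfl (by simp [baseOver])

variable [IsFibGrpd 𝒳.p] [IsFibGrpd 𝒴.p]

/-- Objects over the base change. -/
theorem exists_over {η' η : 𝒴.obj} (m : η' ⟶ η) (x : (fibCat f η).obj) (Y : Scheme.{u})
    (a : Y ⟶ sch (fibCat f η) x) (b : Y ⟶ sch 𝒴 η') (h : a ≫ fibBase x = b ≫ bmap 𝒴 m) :
    ∃ (z : (fibCat f η').obj) (e : sch (fibCat f η') z = Y) (k : (fibMap f m).obj z ⟶ x),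
      bmap (fibCat f η) k = eqToHom e ≫ a ∧ fibBase z = eqToHom e ≫ b := by
  obtain ⟨z0, rfl, k, hk⟩ := fib_lift x Y a
  obtain rfl : bmap (fibCat f η) k = a := by simpa using hk
  have hh : fibBase z0 = b ≫ bmap 𝒴 m := by rw [← h, bmap_fibBase]
  have hb : b ≫ (𝒴.p.obj η').hom = (𝒳.p.obj z0.left).hom := by
    rw [← Over.w (baseOver f z0.left z0.hom), ← Over.w (𝒴.p.map m)]
    exact (congrArg (· ≫ (𝒴.p.obj η).hom) hh.symm).symm.trans (Category.assoc _ _ _) |>.symm
  let B : 𝒳.p.obj z0.left ⟶ 𝒴.p.obj η' := Over.homMk b hb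
  have hB : B ≫ 𝒴.p.map m = baseOver f z0.left z0.hom := Over.OverMorphism.ext hh.symm
  obtain ⟨β, hβ, eβ⟩ := exists_fac (𝒳 := 𝒴) (g := B) m (IsHomLift.map 𝒴.p m) z0.hom
    (lift_congr hB.symm (lift_baseOver z0))
  refine ⟨CostructuredArrow.mk (S := f.toFunctor) (Y := z0.left) β, rfl,
    CostructuredArrow.homMk k.left ?_, ?_, ?_⟩
  · exact (CostructuredArrow.w k).trans eβ.symm
  · show bmap (fibCat f η) k = _
    simp
  · have e' : baseOver f z0.left β = B :=
      eq_of_lifts 𝒴.p β (lift_baseOver (CostructuredArrow.mk (S := f.toFunctor) (Y := z0.left) β)) hβ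
    show (baseOver f z0.left β).left = _
    rw [e']
    simp [B]

/-- Morphisms over the base change. -/
theorem exists_map {η' η : 𝒴.obj} (m : η' ⟶ η) {z z' : (fibCat f η').obj}
    (θ : (fibMap f m).obj z ⟶ (fibMap f m).obj z') (h : bmap (fibCat f η) θ ≫ fibBase z' = fibBase z) :
    ∃ φ : z ⟶ z', (fibMap f m).map φ = θ := by
  have hw : f.map θ.left ≫ z'.hom = z.hom := by
    have h1 : baseOver f z.left (f.map θ.left ≫ z'.hom) = baseOver f z.left z.hom := by
      rw [← map_comp_baseOver]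
      exact Over.OverMorphism.ext h
    have l1 : 𝒴.p.IsHomLift (baseOver f z.left z.hom) (f.map θ.left ≫ z'.hom) := by
      rw [← h1]
      exact lift_baseOver (CostructuredArrow.mk (S := f.toFunctor) (Y := z.left) (f.map θ.left ≫ z'.hom))
    refine eq_of_fac (IsHomLift.map 𝒴.p m) l1 (lift_baseOver z) ?_
    rw [Category.assoc]
    exact CostructuredArrow.w θ
  exact ⟨CostructuredArrow.homMk θ.left hw, CostructuredArrow.hom_ext _ _ rfl⟩

end GenDescLib
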