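import Groth.Agent.GenDescLib.Comm
import Groth.Agent.GenDescLib.Alg
import Groth.Agent.KFlatLib.AffinePull
import Mathlib.AlgebraicGeometry.Morphisms.Affine
import Mathlib.Algebra.Category.Ring.Constructions

/-!
# Sections of cartesian modules under base change
-/

set_option autoImplicit false
set_option linter.style.haveILetI false
set_option backward.isDefEq.respectTransparency false
set_option backward.isDefEq.respectTransparency.types false

universe w v u

open CategoryTheory CategoryTheory.Limits AlgebraicGeometry Opposite StMod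
open KFlatLib (pb puSec puSecLE)

noncomputable section

namespace GenDescLib

variable {S : Scheme.{u}} {W : BasedCategory.{v, w} (Over S)}

/-- Sections of a cartesian module over a base change of affine schemes are the base change. -/
theorem isBaseChange_mapTop (M : Mod W) (hMc : M.IsCartesian) (hMq : M.IsLocQCoh) {x' x : W.obj} (k : x' ⟶ x)
    {T T' : Scheme.{u}} [IsAffine T] [IsAffine T'] [IsAffine (sch W x)] (τ : T' ⟶ T) (b : sch W x ⟶ T)
    (b' : sch W x' ⟶ T') (H : IsPullback (bmap W k) b' b τ)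
    [Algebra Γ(T, ⊤) Γ(T', ⊤)] (halg : algebraMap Γ(T, ⊤) Γ(T', ⊤) = τ.appTop.hom)
    [Module Γ(T, ⊤) Γ(M.obj x, ⊤)] (hP : ∀ (a : Γ(T, ⊤)) (m : Γ(M.obj x, ⊤)), a • m = b.appTop a • m)
    [Module Γ(T, ⊤) Γ(M.obj x', ⊤)] [Module Γ(T', ⊤) Γ(M.obj x', ⊤)]
    (hP' : ∀ (a : Γ(T', ⊤)) (m : Γ(M.obj x', ⊤)), a • m = b'.appTop a • m)
    [IsScalarTower Γ(T, ⊤) Γ(T', ⊤) Γ(M.obj x', ⊤)]
    (ψ : Γ(M.obj x, ⊤) →ₗ[Γ(T, ⊤)] Γ(M.obj x', ⊤)) (hψ : ∀ m, ψ m = M.mapTop k m) :
    IsBaseChange Γ(T', ⊤) ψ := by
  haveI : IsAffine (sch W x') := IsAffine.of_isPullback H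
  haveI := hMq x
  haveI : IsIso (adj M k) := hMc k rfl
  let A := Γ(T, ⊤); let A' := Γ(T', ⊤); let B := Γ(sch W x, ⊤); let B' := Γ(sch W x', ⊤)
  letI : Algebra A B := b.appTop.hom.toAlgebra
  letI : Algebra A' B' := b'.appTop.hom.toAlgebra
  letI : Algebra B B' := (bmap W k).appTop.hom.toAlgebra
  letI : Algebra A B' := (b'.appTop.hom.comp τ.appTop.hom).toAlgebra
  have hsq : IsPushout b.appTop τ.appTop (bmap W k).appTop b'.appTop := isPushout_appTop_of_isPullback H
  haveI : IsScalarTower A A' B' := IsScalarTower.of_algebraMap_eq fun a => by rw [halg]; rfl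
  haveI : IsScalarTower A B B' := IsScalarTower.of_algebraMap_eq fun a => congr($(hsq.w) a).symm
  haveI : Algebra.IsPushout A A' B B' := by
    refine CommRingCat.isPushout_iff_isPushout.1 ?_
    rw [halg]
    exact hsq.flip
  let P := Γ(M.obj x, ⊤); let P' := Γ(M.obj x', ⊤)
  letI : Module B P' := Module.compHom _ (bmap W k).appTop.hom
  haveI : IsScalarTower A B P := IsScalarTower.of_algebraMap_smul fun a m => (hP a m).symm
  haveI : IsScalarTower B B' P' := IsScalarTower.of_algebraMap_smul fun _ _ => rfl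
  haveI : IsScalarTower A' B' P' := IsScalarTower.of_algebraMap_smul fun a m => (hP' a m).symm
  haveI : IsScalarTower A B P' := IsScalarTower.of_algebraMap_smul fun a m => by
    show (bmap W k).appTop (b.appTop a) • m = a • m
    rw [← algebraMap_smul A' a m, halg, hP']
    exact congrArg (· • m) congr($(hsq.w) a)
  -- the pullback of sections
  let Gk := Γ(pb (bmap W k) (M.obj x), ⊤)
  letI : Module B Gk := Module.compHom _ (bmap W k).appTop.hom
  haveI : IsScalarTower B B' Gk := IsScalarTower.of_algebraMap_smul fun _ _ => rfl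
  have hle : ∀ r : B, ((bmap W k).appLE ⊤ ⊤ le_rfl).hom r = (bmap W k).appTop r := fun r =>
    congr($((sch W x').presheaf.map_id _) ((bmap W k).appTop r))
  let ψ0 : P →ₗ[B] Gk :=
    { toFun := puSecLE (bmap W k) (M.obj x) (U := ⊤) (U' := ⊤) le_rfl
      map_add' := map_add _
      map_smul' := fun c m => (KFlatLib.puSecLE_smul (bmap W k) (M.obj x) le_rfl c m).trans
        (congrArg (· • _) (hle c)) }
  have h0 : IsBaseChange B' ψ0 := KFlatLib.isBaseChange_puSec (bmap W k) (M.obj x) (isAffineOpen_top _)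
    (isAffineOpen_top _) le_rfl (fun r => (hle r).symm) ψ0 fun _ => rfl
  let e : Gk ≃ₗ[B'] P' := LinearEquiv.ofBijective
    { toFun := fun s => (adj M k).app ⊤ s
      map_add' := map_add _
      map_smul' := fun c s => QCohLib.app_smul (adj M k) ⊤ c s }
    (ConcreteCategory.bijective_of_isIso ((adj M k).app ⊤))
  let ψB : P →ₗ[B] P' := (e.restrictScalars B).toLinearMap ∘ₗ ψ0
  have hB : IsBaseChange B' ψB := IsBaseChange.of_equiv (h0.equiv ≪≫ₗ e) fun m => by
    simp [ψB, IsBaseChange.equiv_tmul]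
  have hval : ∀ m, ψB m = ψ m := fun m => by
    refine (Eq.trans ?_ (hψ m).symm)
    show (adj M k).app ⊤ ((pb (bmap W k) (M.obj x)).presheaf.map _ (puSec (bmap W k) m)) = _
    refine (congrArg ((adj M k).app ⊤) (congr($((pb (bmap W k) (M.obj x)).presheaf.map_id _) _))).trans ?_
    exact adj_puSec M k (U := ⊤) m
  have hA := isBaseChange_of_isPushout (A := A) (A' := A') (B := B) (B' := B') ψB hB
  rwa [show ψB.restrictScalars A = ψ from LinearMap.ext hval] at hA

end GenDescLib
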