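import Groth.Agent.GenDescLib.Glue
import Groth.Agent.GenDescLib.FibMap
import Groth.Agent.QAffCovLib.Main
import Groth.Agent.IsoNatSepLib.Transfer
import Groth.Agent.AlgStLib.QcMor

/-!
# Affine charts of the category over an affine object
-/

set_option autoImplicit false
set_option linter.style.haveILetI false
set_option backward.isDefEq.respectTransparency false
set_option backward.isDefEq.respectTransparency.types false
set_option maxHeartbeats 800000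

universe u

open CategoryTheory CategoryTheory.Limits AlgebraicGeometry AlgSp AlgSpLib FibCat FibLib AlgStLib IsoNatLib IsoNatSepLib Opposite StMod
open CategoryTheory.Functor (Fiber IsPreFibered IsStronglyCartesian)

noncomputable section

namespace GenDescLib

variable {S : Scheme.{u}} {𝒳 𝒴 : AlgSt.Cat S} [IsFibGrpd 𝒳.p] [IsFibGrpd 𝒴.p] {f : 𝒳 ⥤ᵇ 𝒴}

/-- The inverse of a vertical morphism is vertical. -/
theorem inv_lift {𝒵 : AlgSt.Cat S} [IsFibGrpd 𝒵.p] {T : Over S} {a b : 𝒵.obj} (μ : a ⟶ b) [IsIso μ]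
    (h : 𝒵.p.IsHomLift (𝟙 T) μ) : 𝒵.p.IsHomLift (𝟙 T) (inv μ) :=
  @IsHomLift.lift_id_inv _ _ _ _ 𝒵.p _ _ _ (asIso μ) h

/-- Objects of the fibre product over a scheme come from elements. -/
theorem exists_elt_fiber {V : Over S} {z : 𝒴.p.Fiber V} {T : Over S} (ζ : (fp (uf z) f).p.Fiber T) :
    ∃ (E : Elt f z T) (μ : ζ.1 ⟶ eltObj E), (fp (uf z) f).p.IsHomLift (𝟙 T) μ := by
  obtain ⟨ζ, rfl⟩ := ζ
  exact exists_elt_of_obj ζ

theorem bmap_eq {η : 𝒴.obj} {x' x : (fibCat f η).obj} (k : x' ⟶ x) {A B : Over S} (c : A ⟶ B)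
    (h : 𝒳.p.IsHomLift c k.left) :
    ∃ (e₁ : sch (fibCat f η) x' = A.left) (e₂ : B.left = sch (fibCat f η) x),
      bmap (fibCat f η) k = eqToHom e₁ ≫ c.left ≫ eqToHom e₂ := by
  have h₁ := @IsHomLift.domain_eq _ _ _ _ 𝒳.p _ _ _ _ c k.left h
  have h₂ := @IsHomLift.codomain_eq _ _ _ _ 𝒳.p _ _ _ _ c k.left h
  refine ⟨congrArg Comma.left h₁, congrArg Comma.left h₂.symm, ?_⟩
  show (𝒳.p.map k.left).left = _
  rw [@IsHomLift.fac' _ _ _ _ 𝒳.p _ _ _ _ c k.left h]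
  simp [Over.eqToHom_left]

theorem prop_bmap {P : MorphismProperty Scheme.{u}} [P.RespectsIso] {η : 𝒴.obj} {x' x : (fibCat f η).obj}
    (k : x' ⟶ x) {A B : Over S} (c : A ⟶ B) (h : 𝒳.p.IsHomLift c k.left) (hc : P c.left) :
    P (bmap (fibCat f η) k) := by
  obtain ⟨e₁, e₂, e⟩ := bmap_eq k c h
  rw [e, P.cancel_left_of_respectsIso, P.cancel_right_of_respectsIso]
  exact hc

/-- An affine object covering everything. -/
theorem exists_cover (hfqc : AlgSt.IsQuasiCompactMor Scheme.fppfPrecoverage f) (η : 𝒴.obj) [IsAffine (sch 𝒴 η)] :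
    ∃ w0 : (fibCat f η).obj, IsAffine (sch (fibCat f η) w0) ∧ ∀ x : (fibCat f η).obj,
      ∃ (x' : (fibCat f η).obj) (c : x' ⟶ x) (_ : x' ⟶ w0), Flat (bmap (fibCat f η) c) ∧
        Surjective (bmap (fibCat f η) c) ∧ LocallyOfFinitePresentation (bmap (fibCat f η) c) := by
  let T : Over S := 𝒴.p.obj η
  haveI : IsAffine T.left := ‹IsAffine (sch 𝒴 η)›
  let z : 𝒴.p.Fiber T := Fiber.mk (p := 𝒴.p) (a := η) rfl
  haveI : IsFibGrpd (AlgSt.ofSch T).p := Stk.isFibGrpd_ofPsh _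
  haveI : IsFibGrpd (fp (uf z) f).p := isFibGrpd_fp
  obtain ⟨U, g, hU, hg, hgs⟩ := hfqc (AlgSt.ofSch T) (isAlgStack_ofSch T)
    (isQuasiCompact_ofSp (IsAlgSpace.yon_obj T) (isQuasiCompactSp_yon T)) (uf z)
  obtain ⟨E0, μ, hμ⟩ := exists_elt_fiber (f := f) (T := U)
    (Fiber.mk (p := (fp (uf z) f).p) (a := g.obj (Over.mk (𝟙 U))) (g.w_obj _))
  let w0 : (fibCat f η).obj := CostructuredArrow.mk (S := f.toFunctor) (Y := E0.obj.1) E0.map
  refine ⟨w0, ?_, fun x => ?_⟩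
  · change IsAffine (𝒳.p.obj E0.obj.1).left
    rw [E0.obj.2]; exact hU
  let Ex : Elt f z (𝒳.p.obj x.left) :=
    ⟨baseOver f x.left x.hom, Fiber.mk (p := 𝒳.p) (a := x.left) rfl, x.hom, lift_baseOver x⟩
  obtain ⟨T', c, fU, k, hc, hs, hk⟩ := QAffCovLib.exists_chart hg hgs
    (Fiber.mk (p := (fp (uf z) f).p) (a := eltObj Ex) (rfl : (fp (uf z) f).p.obj (eltObj Ex) = 𝒳.p.obj x.left))
  obtain ⟨E', μ', hμ'⟩ := exists_elt_fiber (f := f) (T := T')
    (Fiber.mk (p := (fp (uf z) f).p) (a := g.obj (Over.mk fU)) (g.w_obj _))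
  haveI : IsIso μ' := by
    haveI : (fp (uf z) f).p.IsHomLift (𝟙 T') μ' := hμ'
    exact isIso_of_isHomLift (fp (uf z) f).p (𝟙 T') μ'
  have h1 : EHom c E' Ex := ehom_of_eltObj_hom (inv μ' ≫ k)
    (lift_congr (Category.id_comp c) (comp_lift (inv_lift μ' hμ') hk))
  have h2 : EHom fU E' E0 := by
    let m : (Over.mk fU : Over U) ⟶ Over.mk (𝟙 U) := Over.homMk fU (Category.comp_id _)
    have hm : (fp (uf z) f).p.IsHomLift fU (g.map m) := FibLib.lift_map g m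
    exact ehom_of_eltObj_hom (inv μ' ≫ g.map m ≫ μ)
      (lift_congr (by simp) (comp_lift (inv_lift μ' hμ') (comp_lift hm hμ)))
  obtain ⟨kc, hkc, ec⟩ := h1
  obtain ⟨ka, -, ea⟩ := h2
  let x' : (fibCat f η).obj := CostructuredArrow.mk (S := f.toFunctor) (Y := E'.obj.1) E'.map
  let c' : x' ⟶ x := CostructuredArrow.homMk kc ec
  haveI := hc; haveI := hs
  exact ⟨x', c', CostructuredArrow.homMk ka ea,
    prop_bmap (P := @Flat) c' c hkc inferInstance, prop_bmap (P := @Surjective) c' c hkc hs,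
    prop_bmap (P := @LocallyOfFinitePresentation) c' c hkc inferInstance⟩

/-- An affine object covering the relations of an affine object. -/
theorem exists_rel (hfqs : AlgSt.IsQuasiSeparatedMor f) (η : 𝒴.obj) [IsAffine (sch 𝒴 η)] (w0 : (fibCat f η).obj)
    [IsAffine (sch (fibCat f η) w0)] :
    ∃ (r : (fibCat f η).obj) (p q : r ⟶ w0), IsAffine (sch (fibCat f η) r) ∧
      ∀ (y : (fibCat f η).obj) (a b : y ⟶ w0), ∃ (y' : (fibCat f η).obj) (c : y' ⟶ y) (e : y' ⟶ r),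
        Flat (bmap (fibCat f η) c) ∧ Surjective (bmap (fibCat f η) c) ∧ e ≫ p = c ≫ a ∧ e ≫ q = c ≫ b := by
  haveI : IsFibGrpd (fp f f).p := isFibGrpd_fp
  let b0 := fibBase w0
  haveI : IsAffine (pullback b0 b0) := inferInstance
  let U0 := 𝒳.p.obj w0.left
  let P : Over S := Over.mk (pullback.fst b0 b0 ≫ U0.hom)
  let A1 : P ⟶ U0 := Over.homMk (pullback.fst b0 b0) rfl
  have hw : b0 ≫ (𝒴.p.obj η).hom = U0.hom := Over.w (baseOver f w0.left w0.hom)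
  let A2 : P ⟶ U0 := Over.homMk (pullback.snd b0 b0) (by
    show pullback.snd b0 b0 ≫ U0.hom = pullback.fst b0 b0 ≫ U0.hom
    rw [← hw, pullback.condition_assoc])
  obtain ⟨z1, m1, hm1⟩ := IsoNatLib.exists_pullback A1 (Fiber.mk (p := 𝒳.p) (a := w0.left) rfl)
  obtain ⟨z2, m2, hm2⟩ := IsoNatLib.exists_pullback A2 (Fiber.mk (p := 𝒳.p) (a := w0.left) rfl)
  let B0 := baseOver f w0.left w0.hom
  have hAB : A1 ≫ B0 = A2 ≫ B0 := Over.OverMorphism.ext pullback.condition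
  let g1 : f.obj z1.1 ⟶ η := f.map m1 ≫ w0.hom
  let g2 : f.obj z2.1 ⟶ η := f.map m2 ≫ w0.hom
  have hg1 : 𝒴.p.IsHomLift (A1 ≫ B0) g1 := comp_lift (fun_lift f hm1) (lift_baseOver w0)
  have hg2 : 𝒴.p.IsHomLift (A2 ≫ B0) g2 := comp_lift (fun_lift f hm2) (lift_baseOver w0)
  obtain ⟨θ, hθ, eθ⟩ := exists_fac (𝒳 := 𝒴) (g := 𝟙 P) g2 hg2 g1 (lift_congr (by rw [Category.id_comp, hAB]) hg1)
  haveI := hθ
  haveI : IsIso θ := isIso_of_isHomLift 𝒴.p (𝟙 P) θ
  have hθ1 : 𝒴.p.IsHomLift (𝟙 (𝒳.p.obj z1.1)) θ := z1.2.symm ▸ hθ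
  let zz : (fp f f).p.Fiber P := Fiber.mk (p := (fp f f).p) (a := fpObj z1.1 z2.1 (asIso θ) hθ1) z1.2
  obtain ⟨H, aH, hH, hP, -, ⟨C⟩⟩ := exists_classifier hfqs zz
  haveI : IsAffine P.left := ‹IsAffine (pullback b0 b0)›
  have hHq : IsQuasiCompactSp H := hP.1 (IsAlgSpace.yon_obj _) (isQuasiCompactSp_yon _) (𝟙 _) (𝟙 H) aH
    (IsPullback.of_horiz_isIso ⟨by simp⟩)
  obtain ⟨Wr, w, hWr, hw', hws⟩ := AlgSpLib.exists_affine_chart hHq
  obtain ⟨E1, hE1⟩ := C.exists_elt w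
  let a1 : E1.obj.1 ⟶ z1.1 := E1.map.hom.fst
  let b1 : E1.obj.1 ⟶ z2.1 := E1.map.hom.snd
  have e1 : f.map a1 ≫ θ = f.map b1 := E1.map.hom.w.trans (Category.id_comp _)
  let r : (fibCat f η).obj := CostructuredArrow.mk (S := f.toFunctor) (Y := E1.obj.1) (f.map (a1 ≫ m1) ≫ w0.hom)
  let p : r ⟶ w0 := CostructuredArrow.homMk (a1 ≫ m1) rfl
  let q : r ⟶ w0 := CostructuredArrow.homMk (b1 ≫ m2) (by
    show f.map (b1 ≫ m2) ≫ w0.hom = f.map (a1 ≫ m1) ≫ w0.hom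
    rw [f.toFunctor.map_comp, f.toFunctor.map_comp, Category.assoc, Category.assoc, ← e1, Category.assoc]
    exact congrArg (f.map a1 ≫ ·) eθ)
  refine ⟨r, p, q, ?_, fun y a b => ?_⟩
  · change IsAffine (𝒳.p.obj E1.obj.1).left
    rw [E1.obj.2]; exact hWr
  let Ty := 𝒳.p.obj y.left
  let C0 : pullback.lift (f := b0) (g := b0) (bmap (fibCat f η) a) (bmap (fibCat f η) b)
    ((bmap_fibBase a).trans (bmap_fibBase b).symm) ≫ P.hom = Ty.hom := by
      show _ ≫ pullback.fst b0 b0 ≫ U0.hom = _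
      rw [pullback.lift_fst_assoc]
      exact Over.w (𝒳.p.map a.left)
  let Cy : Ty ⟶ P := Over.homMk _ C0
  have hCa : Cy ≫ A1 = 𝒳.p.map a.left := Over.OverMorphism.ext (pullback.lift_fst _ _ _)
  have hCb : Cy ≫ A2 = 𝒳.p.map b.left := Over.OverMorphism.ext (pullback.lift_snd _ _ _)
  obtain ⟨a', ha', ea'⟩ := exists_fac (g := Cy) m1 hm1 a.left (lift_congr hCa.symm (IsHomLift.map 𝒳.p a.left))
  obtain ⟨b', hb', eb'⟩ := exists_fac (g := Cy) m2 hm2 b.left (lift_congr hCb.symm (IsHomLift.map 𝒳.p b.left))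
  have hab : f.map a' ≫ θ = f.map b' := by
    refine eq_of_fac hg2 (lift_congr (Category.comp_id Cy) (comp_lift (fun_lift f ha') hθ)) (fun_lift f hb') ?_
    rw [Category.assoc, eθ]
    show f.map a' ≫ f.map m1 ≫ w0.hom = f.map b' ≫ f.map m2 ≫ w0.hom
    rw [← f.toFunctor.map_comp_assoc, ← f.toFunctor.map_comp_assoc, ea', eb',
      CostructuredArrow.w a, CostructuredArrow.w b]
  let μy : (FibCat.diag f).obj y.left ⟶ zz.1 := fpHom a' b' (hab.trans (Category.id_comp _).symm)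
  have hμy : (fp f f).p.IsHomLift Cy μy := by
    haveI : 𝒳.p.IsHomLift Cy μy.hom.fst := ha'
    exact isHomLift_of_fst Cy μy
  let Ey : Elt (FibCat.diag f) zz Ty := ⟨Cy, Fiber.mk (p := 𝒳.p) (a := y.left) rfl, μy, hμy⟩
  obtain ⟨W', pW, qW, sq⟩ := AlgSpLib.exists_isPullback_yon w (C.cls Ey) hw'.1
  haveI : Etale qW.left := hw'.2 _ _ _ sq
  haveI : Surjective qW.left := hws.2 _ _ _ sq
  obtain ⟨E', hE'⟩ := exists_pullback_elt qW Ey
  have hE1' : EHom pW E' E1 := C.ehom_of_comp (by rw [C.cls_map hE', hE1, sq.w])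
  obtain ⟨kc, hkc, ec⟩ := hE'
  obtain ⟨ke, -, ee⟩ := hE1'
  have ec1 : kc ≫ a' = E'.map.hom.fst := congrArg (fun t => t.hom.fst) ec
  have ec2 : kc ≫ b' = E'.map.hom.snd := congrArg (fun t => t.hom.snd) ec
  have ee1 : ke ≫ a1 = E'.map.hom.fst := congrArg (fun t => t.hom.fst) ee
  have ee2 : ke ≫ b1 = E'.map.hom.snd := congrArg (fun t => t.hom.snd) ee
  let y' : (fibCat f η).obj := CostructuredArrow.mk (S := f.toFunctor) (Y := E'.obj.1) (f.map kc ≫ y.hom)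
  let c : y' ⟶ y := CostructuredArrow.homMk kc rfl
  have h3 : ke ≫ a1 ≫ m1 = kc ≫ a.left := by rw [← ea', ← Category.assoc, ← Category.assoc, ee1, ec1]
  let e : y' ⟶ r := CostructuredArrow.homMk ke (by
    show f.map ke ≫ f.map (a1 ≫ m1) ≫ w0.hom = f.map kc ≫ y.hom
    rw [← f.toFunctor.map_comp_assoc, h3, f.toFunctor.map_comp, Category.assoc, CostructuredArrow.w a])
  refine ⟨y', c, e, prop_bmap (P := @Flat) c qW hkc inferInstance,
    prop_bmap (P := @Surjective) c qW hkc inferInstance, CostructuredArrow.hom_ext _ _ h3,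
    CostructuredArrow.hom_ext _ _ ?_⟩
  show ke ≫ b1 ≫ m2 = kc ≫ b.left
  rw [← eb', ← Category.assoc, ← Category.assoc, ee2, ec2]

/-- A chart with a chart of its relations exists over affine objects. -/
theorem exists_chartData (hfqc : AlgSt.IsQuasiCompactMor Scheme.fppfPrecoverage f)
    (hfqs : AlgSt.IsQuasiSeparatedMor f) (η : 𝒴.obj) [IsAffine (sch 𝒴 η)] :
    ∃ (w0 r : (fibCat f η).obj) (p q : r ⟶ w0), IsAffine (sch (fibCat f η) w0) ∧ IsAffine (sch (fibCat f η) r) ∧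
      Chart (fibCat f η) w0 r p q := by
  obtain ⟨w0, hw0, hcov⟩ := exists_cover hfqc η
  haveI := hw0
  obtain ⟨r, p, q, hr, hrel⟩ := exists_rel hfqs η w0
  exact ⟨w0, r, p, q, hw0, hr, ⟨⟨fun x Y a => fib_lift x Y a, fun c m b hb => fib_fac c m b hb⟩, hcov, hrel⟩⟩

end GenDescLib
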