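import Groth.Agent.GenDescLib.Kill
import Groth.Agent.GenDescLib.FibMap

/-!
# Generating families descend along flat affine covers of the base
-/

set_option autoImplicit false
set_option linter.style.haveILetI false
set_option backward.isDefEq.respectTransparency false
set_option backward.isDefEq.respectTransparency.types false
set_option maxHeartbeats 800000

universe u

open CategoryTheory CategoryTheory.Limits AlgebraicGeometry AlgSp FibCat FibLib AlgStLib IsoNatLib IsoNatSepLib Opposite StMod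
open CategoryTheory.Functor (Fiber IsPreFibered IsStronglyCartesian)

noncomputable section

namespace GenDescLib

variable {S : Scheme.{u}} {𝒳 𝒴 : AlgSt.Cat S} [IsFibGrpd 𝒳.p] [IsFibGrpd 𝒴.p] {f : 𝒳 ⥤ᵇ 𝒴}

theorem comap_fibMap_map {η' η : 𝒴.obj} (m : η' ⟶ η) (M : Mod (fibCat f η)) {x' x : (fibCat f η').obj}
    (φ : x' ⟶ x) : (Mod.comap (fibMap f m) M).map φ rfl = M.map ((fibMap f m).map φ) rfl := by
  rw [Mod.comap_map]
  exact castMap_rfl_self _ _

theorem fibred_fibCat (η : 𝒴.obj) : Fibred (fibCat f η) :=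
  ⟨fun x Y a => fib_lift x Y a, fun c m b hb => fib_fac c m b hb⟩

/-- Killing descends along one flat affine base change. -/
theorem comp_eq_zero_of_map {η' η : 𝒴.obj} (m : η' ⟶ η) [IsAffine (sch 𝒴 η')] [IsAffine (sch 𝒴 η)]
    [Flat (bmap 𝒴 m)] {w0 r : (fibCat f η).obj} {p q : r ⟶ w0} (hW : Chart (fibCat f η) w0 r p q)
    [IsAffine (sch (fibCat f η) w0)] [IsAffine (sch (fibCat f η) r)] (E : QCoh 𝒳) (hfp : CohB1.IsFP (E.obj.obj w0.left))
    {M N : QCoh (fibCat f η)} (u : M ⟶ N) (hu : ∀ φ : Mod.comap (fibFst f η) E.obj ⟶ M.obj, φ ≫ u.hom = 0)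
    (φ' : Mod.comap (fibFst f η') E.obj ⟶ Mod.comap (fibMap f m) M.obj) :
    φ' ≫ Mod.comapMap (fibMap f m) u.hom = 0 := by
  let τ := bmap 𝒴 m
  let E0 := (comapQ (fibFst f η)).obj E
  obtain ⟨w0', e, k, hk, hb⟩ := exists_over m w0 _ (pullback.fst (fibBase w0) τ) (pullback.snd (fibBase w0) τ)
    pullback.condition
  obtain ⟨r', e', l, hl, hb'⟩ := exists_over m r _ (pullback.fst (fibBase r) τ) (pullback.snd (fibBase r) τ)
    pullback.condition
  have sqk : IsPullback (bmap (fibCat f η) k) (fibBase w0') (fibBase w0) τ :=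
    IsPullback.of_iso_pullback ⟨by rw [hk, hb, Category.assoc, Category.assoc, pullback.condition]⟩
      (eqToIso e) hk.symm hb.symm
  have sql : IsPullback (bmap (fibCat f η) l) (fibBase r') (fibBase r) τ :=
    IsPullback.of_iso_pullback ⟨by rw [hl, hb', Category.assoc, Category.assoc, pullback.condition]⟩
      (eqToIso e') hl.symm hb'.symm
  have lift : ∀ (x : r ⟶ w0), ∃ x' : r' ⟶ w0', (fibMap f m).map x' ≫ k = l ≫ x ∧
      bmap (fibCat f η) ((fibMap f m).map x') ≫ fibBase w0' = fibBase r' := fun x => by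
    let ρ := sqk.lift (bmap (fibCat f η) (l ≫ x)) (fibBase r')
      (by rw [bmap_comp, Category.assoc, bmap_fibBase, sql.w])
    obtain ⟨θ, hθ, hθ'⟩ := fib_fac k (l ≫ x) ρ (sqk.lift_fst _ _ _)
    have hθb : bmap (fibCat f η) θ ≫ fibBase w0' = fibBase r' := by rw [hθ']; exact sqk.lift_snd _ _ _
    obtain ⟨φ, rfl⟩ := exists_map m θ hθb
    exact ⟨φ, hθ, hθb⟩
  obtain ⟨p', hp, hp2⟩ := lift p
  obtain ⟨q', hq, hq2⟩ := lift q
  -- the morphism over the chart
  have hc : ∀ {x' x : (fibCat f η').obj} (φ : x' ⟶ x),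
      φ'.app x' = pull E0.obj M.obj E0.property.1 ((fibMap f m).map φ) (φ'.app x) := fun {x' x} φ => by
    refine (eq_pull_iff E0.obj M.obj E0.property.1 ((fibMap f m).map φ) (φ'.app x) (φ'.app x')).2 ?_
    have h1 := φ'.comm φ rfl
    rw [comap_fibMap_map] at h1
    exact h1
  have h0 : φ'.app w0' ≫ u.hom.app ((fibMap f m).obj w0') = 0 := by
    refine comp_app_eq_zero E0.obj M.obj N.obj E0.property.1 E0.property.2 M.property.1 M.property.2 hW hfp u.hom hu τ
      (fibBase w0) (by rw [bmap_fibBase, bmap_fibBase]) k l ((fibMap f m).map p') ((fibMap f m).map q') hp hq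
      (fibBase w0') sqk ?_ (hq2.trans hp2.symm) (φ'.app w0') ((hc p').symm.trans ?_)
    · rw [hp2, bmap_fibBase]; exact sql
    · exact (show φ'.app r' = _ from rfl).trans (hc q')
  -- everywhere
  refine Mod.hom_ext fun x' => ?_
  obtain ⟨y, c, a, hfl, hs, -⟩ := hW.cov ((fibMap f m).obj x')
  let y' : (fibCat f η').obj := CostructuredArrow.mk (S := f.toFunctor) (Y := y.left) (f.map c.left ≫ x'.hom)
  let c' : y' ⟶ x' := CostructuredArrow.homMk c.left rfl
  have hy : ((fibMap f m).obj y').hom = y.hom := by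
    show (f.map c.left ≫ x'.hom) ≫ m = y.hom
    rw [Category.assoc]
    exact CostructuredArrow.w c
  let a' : (fibMap f m).obj y' ⟶ w0 := CostructuredArrow.homMk a.left ((CostructuredArrow.w a).trans hy.symm)
  let ρ := sqk.lift (bmap (fibCat f η) a') (fibBase y') (by rw [bmap_fibBase, fibBase_fibMap])
  obtain ⟨θ, hθ, hθ'⟩ := fib_fac k a' ρ (sqk.lift_fst _ _ _)
  have hθb : bmap (fibCat f η) θ ≫ fibBase w0' = fibBase y' := by rw [hθ']; exact sqk.lift_snd _ _ _
  obtain ⟨ψ, -⟩ := exists_map m θ hθb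
  let E1 := (comapQ (fibFst f η')).obj E
  let N1 := (comapQ (fibMap f m)).obj N
  let Φ : E1.obj ⟶ N1.obj := φ' ≫ Mod.comapMap (fibMap f m) u.hom
  have hw : Φ.app w0' = 0 := h0
  show Φ.app x' = 0
  refine eq_of_pull₁ E1.property.1 c' hfl hs N1.property.1 ?_
  rw [← app_eq_pull E1.obj N1.obj E1.property.1, app_eq_pull E1.obj N1.obj E1.property.1 ψ, hw, pull_zero, pull_zero]

/-- A family generates over an affine object when it does over a flat jointly surjective affine family over it. -/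
theorem isGenFam_of_cover {η : 𝒴.obj} [IsAffine (sch 𝒴 η)] {w0 r : (fibCat f η).obj} {p q : r ⟶ w0}
    (hW : Chart (fibCat f η) w0 r p q) [IsAffine (sch (fibCat f η) w0)] [IsAffine (sch (fibCat f η) r)]
    {ι : Type u} (E : ι → QCoh 𝒳) (hE : ∀ i, CohB1.IsFP ((E i).obj.obj w0.left))
    {κ : Type u} (η' : κ → 𝒴.obj) (haff : ∀ j, IsAffine (sch 𝒴 (η' j))) (m : ∀ j, η' j ⟶ η)
    (hfl : ∀ j, Flat (bmap 𝒴 (m j))) (hsurj : ∀ t : sch 𝒴 η, ∃ j, t ∈ Set.range (bmap 𝒴 (m j)))
    (hgen : ∀ j, IsGenFam (fun i => (comapQ (fibFst f (η' j))).obj (E i))) :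
    IsGenFam (fun i => (comapQ (fibFst f η)).obj (E i)) := by
  rw [isGenFam_iff]
  intro M N u hu
  have hu' : ∀ j, (comapQ (fibMap f (m j))).map u = 0 := fun j =>
    (isGenFam_iff _).1 (hgen j) _ fun i φ' =>
      haveI := haff j; haveI := hfl j
      comp_eq_zero_of_map (m j) hW (E i) (hE i) u (hu i) φ'
  refine InducedCategory.hom_ext (Mod.hom_ext fun x => ?_)
  choose z e k hk hb using fun j => exists_over (m j) x _ (pullback.fst (fibBase x) (bmap 𝒴 (m j)))
    (pullback.snd (fibBase x) (bmap 𝒴 (m j))) pullback.condition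
  refine eq_of_pull M.property.1 k (fun j => ?_) (fun s => ?_) N.property.1 fun j => ?_
  · haveI := hfl j
    rw [hk]; infer_instance
  · obtain ⟨j, t, ht⟩ := hsurj (fibBase x s)
    obtain ⟨v, hv, -⟩ := Scheme.Pullback.exists_preimage_pullback (f := fibBase x) (g := bmap 𝒴 (m j)) s t ht.symm
    refine ⟨j, (eqToIso (e j)).inv v, ?_⟩
    rw [hk]
    refine (Scheme.Hom.comp_apply _ _ _).trans ?_
    have hid : (eqToHom (e j)) ((eqToIso (e j)).inv v) = v := by
      refine (Scheme.Hom.comp_apply (eqToIso (e j)).inv (eqToIso (e j)).hom v).symm.trans ?_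
      rw [Iso.inv_hom_id]; rfl
    exact (congrArg _ hid).trans hv
  · rw [← app_eq_pull M.obj N.obj M.property.1]
    have h1 := congrArg (fun t : (comapQ (fibMap f (m j))).obj M ⟶ (comapQ (fibMap f (m j))).obj N => t.hom.app (z j)) (hu' j)
    refine h1.trans ?_
    show (0 : M.obj.obj _ ⟶ N.obj.obj _) = pull M.obj N.obj M.property.1 (k j) ((0 : M ⟶ N).hom.app x)
    exact (pull_zero M.obj N.obj M.property.1 (k j)).symm

end GenDescLib
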