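import Groth.Agent.GenDescLib.Comm
import Mathlib.AlgebraicGeometry.Morphisms.FinitePresentation

/-!
# Gluing morphisms from a chart
-/

set_option autoImplicit false
set_option linter.style.haveILetI false
set_option backward.isDefEq.respectTransparency false
set_option backward.isDefEq.respectTransparency.types false

universe w v u

open CategoryTheory CategoryTheory.Limits AlgebraicGeometry Opposite StMod
open KFlatLib (pb puSec puSecLE)

noncomputable section

namespace GenDescLib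

variable {S : Scheme.{u}}

/-- Morphisms of schemes lift to a category over the base, uniquely over a morphism. -/
structure Fibred (W : BasedCategory.{v, w} (Over S)) : Prop where
  lift : ∀ (x : W.obj) (Y : Scheme.{u}) (a : Y ⟶ sch W x),
    ∃ (z : W.obj) (e : sch W z = Y) (m : z ⟶ x), bmap W m = eqToHom e ≫ a
  fac : ∀ {x' x z : W.obj} (c : x' ⟶ x) (m : z ⟶ x) (b : sch W z ⟶ sch W x'),
    b ≫ bmap W c = bmap W m → ∃ θ : z ⟶ x', θ ≫ c = m ∧ bmap W θ = b

/-- A chart with a chart of its relations. -/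
structure Chart (W : BasedCategory.{v, w} (Over S)) (w0 r : W.obj) (p q : r ⟶ w0) : Prop where
  fibred : Fibred W
  cov : ∀ x : W.obj, ∃ (x' : W.obj) (c : x' ⟶ x) (_ : x' ⟶ w0),
    Flat (bmap W c) ∧ Surjective (bmap W c) ∧ LocallyOfFinitePresentation (bmap W c)
  rel : ∀ (y : W.obj) (a b : y ⟶ w0), ∃ (y' : W.obj) (c : y' ⟶ y) (e : y' ⟶ r),
    Flat (bmap W c) ∧ Surjective (bmap W c) ∧ e ≫ p = c ≫ a ∧ e ≫ q = c ≫ b

variable {W : BasedCategory.{v, w} (Over S)}

/-- Base changes of flat surjective morphisms. -/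
theorem Fibred.exists_sq (hW : Fibred W) {x' x y : W.obj} (c : x' ⟶ x) (k : y ⟶ x) [Flat (bmap W c)]
    [Surjective (bmap W c)] :
    ∃ (y' : W.obj) (c' : y' ⟶ y) (k' : y' ⟶ x'),
      c' ≫ k = k' ≫ c ∧ Flat (bmap W c') ∧ Surjective (bmap W c') := by
  obtain ⟨y', e, c', hc'⟩ := hW.lift y _ (pullback.snd (bmap W c) (bmap W k))
  obtain ⟨k', hk', -⟩ := hW.fac c (c' ≫ k) (eqToHom e ≫ pullback.fst (bmap W c) (bmap W k))
    (by rw [bmap_comp, hc', Category.assoc, Category.assoc, pullback.condition])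
  haveI : Flat (pullback.snd (bmap W c) (bmap W k)) := inferInstance
  haveI : Surjective (pullback.snd (bmap W c) (bmap W k)) := MorphismProperty.pullback_snd _ _ inferInstance
  exact ⟨y', c', k', hk'.symm, hc' ▸ inferInstance, hc' ▸ inferInstance⟩

variable {E M : Mod W} (hE : E.IsCartesian) (hM : M.IsCartesian) {w0 r : W.obj} {p q : r ⟶ w0}
  (hW : Chart W w0 r p q)

include hM hW in
/-- Morphisms on the chart agreeing on the relations have the same pullbacks along all pairs. -/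
theorem Chart.pull_eq (h0 : E.obj w0 ⟶ M.obj w0) (hh : pull E M hE p h0 = pull E M hE q h0) {y : W.obj}
    (a b : y ⟶ w0) : pull E M hE a h0 = pull E M hE b h0 := by
  obtain ⟨y', c, e, hc, hs, h1, h2⟩ := hW.rel y a b
  refine eq_of_pull₁ hE c hc hs hM ?_
  rw [← pull_comp, ← pull_comp, ← h1, ← h2, pull_comp, pull_comp, hh]

include hM hW in
/-- A morphism on the chart agreeing on the relations extends. -/
theorem Chart.exists_hom (hMq : M.IsLocQCoh) (h0 : E.obj w0 ⟶ M.obj w0)
    (hh : pull E M hE p h0 = pull E M hE q h0) : ∃ h : E ⟶ M, h.app w0 = h0 := by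
  let P : ∀ x, (E.obj x ⟶ M.obj x) → Prop := fun x hx =>
    ∀ (y : W.obj) (k : y ⟶ x) (a : y ⟶ w0), pull E M hE k hx = pull E M hE a h0
  have huniq : ∀ (x : W.obj) (h₁ h₂ : E.obj x ⟶ M.obj x), P x h₁ → P x h₂ → h₁ = h₂ := fun x h₁ h₂ p₁ p₂ => by
    obtain ⟨x', c, a, hc, hs, -⟩ := hW.cov x
    exact eq_of_pull₁ hE c hc hs hM ((p₁ _ c a).trans (p₂ _ c a).symm)
  have hex : ∀ x, ∃ hx, P x hx := fun x => by
    obtain ⟨x', c, a, hc, hs, hl⟩ := hW.cov x
    haveI := hc; haveI := hs; haveI := hl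
    obtain ⟨hx, hhx⟩ := exists_descend hE c hM (hMq x) (fun Y a' b' hab => by
      obtain ⟨y'', e, ka, hka⟩ := hW.fibred.lift x' Y a'
      obtain ⟨kb, hkb, hkb'⟩ := hW.fibred.fac c (ka ≫ c) (eqToHom e ≫ b')
        (by rw [bmap_comp, hka, Category.assoc, Category.assoc, hab])
      exact ⟨y'', e, ka, kb, hkb.symm, hka, hkb'⟩) (pull E M hE a h0) fun y'' ka kb _ => by
      rw [← pull_comp, ← pull_comp]
      exact hW.pull_eq hE hM h0 hh _ _
    refine ⟨hx, fun y k a₁ => ?_⟩
    obtain ⟨y', c', k', e, hc', hs'⟩ := hW.fibred.exists_sq c k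
    refine eq_of_pull₁ hE c' hc' hs' hM ?_
    rw [← pull_comp, e, pull_comp, hhx, ← pull_comp, ← pull_comp]
    exact hW.pull_eq hE hM h0 hh _ _
  choose app happ using hex
  refine ⟨⟨app, fun {x' x} φ g hg => ?_⟩, ?_⟩
  · have h1 : app x' = pull E M hE φ (app x) := huniq x' _ _ (happ x') fun y k a => by
      rw [← pull_comp]; exact happ x y (k ≫ φ) a
    rw [h1]
    exact pull_comm E M hE φ (app x) hg
  · show app w0 = h0
    rw [← pull_id E M hE (app w0), happ w0 w0 (𝟙 w0) (𝟙 w0), pull_id]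

include hE hM hW in
/-- A morphism is zero when it is zero on the chart. -/
theorem Chart.eq_zero (h : E ⟶ M) (h0 : h.app w0 = 0) : h = 0 := by
  refine Mod.hom_ext fun x => ?_
  obtain ⟨x', c, a, hc, hs, -⟩ := hW.cov x
  refine eq_of_pull₁ hE c hc hs hM ?_
  rw [← app_eq_pull E M hE, app_eq_pull E M hE a, h0, Mod.zero_app, pull_zero, pull_zero]

end GenDescLib
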