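import Groth.Agent.GenDescLib.Glue
import Groth.Agent.GenDescLib.Sections
import Groth.Agent.OmegaAffLib.AffHom
import Groth.Agent.S1178

/-!
# Killing morphisms out of a finitely presented module descends along flat base change
-/

set_option autoImplicit false
set_option linter.style.haveILetI false
set_option backward.isDefEq.respectTransparency false
set_option backward.isDefEq.respectTransparency.types false
set_option maxHeartbeats 1600000

universe w v u

open CategoryTheory CategoryTheory.Limits AlgebraicGeometry Opposite StMod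
open KFlatLib (pb puSec puSecLE)

noncomputable section

namespace GenDescLib

variable {S : Scheme.{u}} {W : BasedCategory.{v, w} (Over S)}

/-- Restricted sections generate over an affine base change. -/
theorem span_mapTop (M : Mod W) (hMc : M.IsCartesian) (hMq : M.IsLocQCoh) {x' x : W.obj} (k : x' ⟶ x)
    [IsAffine (sch W x')] [IsAffine (sch W x)] {n : ℕ} (e : Fin n → Γ(M.obj x, ⊤))
    (he : Submodule.span Γ(sch W x, ⊤) (Set.range e) = ⊤) :
    Submodule.span Γ(sch W x', ⊤) (Set.range fun i => M.mapTop k (e i)) = ⊤ := by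
  letI : Algebra Γ(sch W x, ⊤) Γ(sch W x', ⊤) := (bmap W k).appTop.hom.toAlgebra
  letI : Module Γ(sch W x, ⊤) Γ(M.obj x', ⊤) := Module.compHom _ (bmap W k).appTop.hom
  haveI : IsScalarTower Γ(sch W x, ⊤) Γ(sch W x', ⊤) Γ(M.obj x', ⊤) :=
    IsScalarTower.of_algebraMap_smul fun _ _ => rfl
  let ψ : Γ(M.obj x, ⊤) →ₗ[Γ(sch W x, ⊤)] Γ(M.obj x', ⊤) :=
    { toFun := M.mapTop k
      map_add' := M.mapTop_add k
      map_smul' := fun r m => M.mapTop_smul k r m }
  have hψ : IsBaseChange Γ(sch W x', ⊤) ψ :=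
    isBaseChange_mapTop M hMc hMq k (bmap W k) (𝟙 _) (𝟙 _) (IsPullback.of_vert_isIso ⟨by simp⟩) rfl
      (fun a m => by rw [Scheme.Hom.id_appTop]; rfl) (fun a m => by rw [Scheme.Hom.id_appTop]; rfl) ψ fun _ => rfl
  refine top_le_iff.1 fun y hy0 => ?_
  clear hy0
  induction y using hψ.inductionOn with
  | zero => exact Submodule.zero_mem _
  | tmul m =>
    have hm : m ∈ Submodule.span Γ(sch W x, ⊤) (Set.range e) := he ▸ Submodule.mem_top
    obtain ⟨c, rfl⟩ := (Submodule.mem_span_range_iff_exists_fun _).1 hm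
    rw [map_sum]
    refine Submodule.sum_mem _ fun i _ => ?_
    rw [map_smul, ← algebraMap_smul Γ(sch W x', ⊤) (c i) (ψ (e i))]
    exact Submodule.smul_mem _ _ (Submodule.subset_span ⟨i, rfl⟩)
  | smul s y hy => exact Submodule.smul_mem _ s hy
  | add y y' hy hy' => exact Submodule.add_mem _ hy hy'

/-- Morphisms on an affine scheme agreeing on generators agree. -/
theorem hom_ext_span {X : Scheme.{u}} [IsAffine X] {F G : X.Modules} [Coh.IsQCoh F] {κ : Type*}
    (e : κ → Γ(F, ⊤)) (he : Submodule.span Γ(X, ⊤) (Set.range e) = ⊤) {φ ψ : F ⟶ G}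
    (h : ∀ i, φ.app ⊤ (e i) = ψ.app ⊤ (e i)) : φ = ψ := by
  obtain ⟨α, -, hu⟩ := OmegaAffLib.exists_hom_of_top F G (φ.app ⊤).hom fun a t => QCohLib.app_smul φ ⊤ a t
  refine (hu φ fun t => rfl).trans (hu ψ fun t => ?_).symm
  have ht : t ∈ Submodule.span Γ(X, ⊤) (Set.range e) := he ▸ Submodule.mem_top
  induction ht using Submodule.span_induction with
  | mem t ht => obtain ⟨i, rfl⟩ := ht; exact (h i).symm
  | zero => rw [map_zero, map_zero]
  | add a b _ _ ha hb => rw [map_add, map_add, ha, hb]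
  | smul r a _ ha => rw [QCohLib.app_smul, ha]; exact (QCohLib.app_smul φ ⊤ r a).symm

variable (E M N : Mod W) (hEc : E.IsCartesian) (hEq : E.IsLocQCoh) (hMc : M.IsCartesian) (hMq : M.IsLocQCoh)

include hEc hEq hMc hMq in
/-- If a morphism kills all morphisms from a finitely presented module, then so it does on a flat affine base
change of a chart. -/
theorem comp_app_eq_zero {w0 r : W.obj} {p q : r ⟶ w0} (hW : Chart W w0 r p q) [IsAffine (sch W w0)]
    [IsAffine (sch W r)] (hfp : CohB1.IsFP (E.obj w0)) (u : M ⟶ N) (hu : ∀ φ : E ⟶ M, φ ≫ u = 0)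
    {T T' : Scheme.{u}} [IsAffine T] [IsAffine T'] (τ : T' ⟶ T) [Flat τ] (b0 : sch W w0 ⟶ T)
    (hpq : bmap W q ≫ b0 = bmap W p ≫ b0) {w0' r' : W.obj} (k : w0' ⟶ w0) (l : r' ⟶ r) (p' q' : r' ⟶ w0')
    (hp : p' ≫ k = l ≫ p) (hq : q' ≫ k = l ≫ q) (b0' : sch W w0' ⟶ T')
    (hk : IsPullback (bmap W k) b0' b0 τ)
    (hl : IsPullback (bmap W l) (bmap W p' ≫ b0') (bmap W p ≫ b0) τ)
    (hpq' : bmap W q' ≫ b0' = bmap W p' ≫ b0') (h' : E.obj w0' ⟶ M.obj w0')
    (hh' : pull E M hEc p' h' = pull E M hEc q' h') : h' ≫ u.app w0' = 0 := by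
  haveI : IsAffine (sch W w0') := IsAffine.of_isPullback hk
  haveI : IsAffine (sch W r') := IsAffine.of_isPullback hl
  haveI := hEq w0; haveI := hEq w0'; haveI := hEq r
  haveI := Groth.Agent.S1178.finitePresentation_affine (E.obj w0) hfp (isAffineOpen_top _)
  obtain ⟨n, m, π, g, hπ, hex⟩ := Module.FinitePresentation.exists_fin' Γ(sch W w0, ⊤) Γ(E.obj w0, ⊤)
  classical
  let e : Fin n → Γ(E.obj w0, ⊤) := fun i => π (Pi.single i 1)
  let b : Fin m → Fin n → Γ(sch W w0, ⊤) := fun j => g (Pi.single j 1)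
  have hπe : ∀ v, π v = ∑ i, v i • e i := fun v => by
    conv_lhs => rw [← Finset.univ_sum_single v]
    rw [map_sum]
    refine Finset.sum_congr rfl fun i _ => ?_
    rw [← map_smul]
    congr 1
    rw [← Pi.single_smul', smul_eq_mul, mul_one]
  have hespan : Submodule.span Γ(sch W w0, ⊤) (Set.range e) = ⊤ := top_le_iff.1 fun t _ => by
    obtain ⟨v, rfl⟩ := hπ t
    rw [hπe]
    exact Submodule.sum_mem _ fun i _ => Submodule.smul_mem _ _ (Submodule.subset_span ⟨i, rfl⟩)
  have hbe : ∀ j, ∑ i, b j i • e i = 0 := fun j => by rw [← hπe]; exact hex.apply_apply_eq_zero _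
  have hc : ∀ i, ∃ c : Fin n → Γ(sch W r, ⊤), ∑ l, c l • E.mapTop q (e l) = E.mapTop p (e i) := fun i =>
    (Submodule.mem_span_range_iff_exists_fun _).1 ((span_mapTop E hEc hEq q e hespan) ▸ Submodule.mem_top)
  choose c hce using hc
  -- linear structures over the base
  letI algT : Algebra Γ(T, ⊤) Γ(T', ⊤) := τ.appTop.hom.toAlgebra
  haveI : Module.Flat Γ(T, ⊤) Γ(T', ⊤) := by
    have h1 : τ.appTop.hom.Flat := HasRingHomProperty.appTop (P := @Flat) τ inferInstance
    exact h1
  let br := bmap W p ≫ b0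
  let br' := bmap W p' ≫ b0'
  letI : Module Γ(T, ⊤) Γ(M.obj w0, ⊤) := Module.compHom _ b0.appTop.hom
  letI : Module Γ(T, ⊤) Γ(M.obj r, ⊤) := Module.compHom _ br.appTop.hom
  letI : Module Γ(T', ⊤) Γ(M.obj w0', ⊤) := Module.compHom _ b0'.appTop.hom
  letI : Module Γ(T', ⊤) Γ(M.obj r', ⊤) := Module.compHom _ br'.appTop.hom
  letI : Module Γ(T, ⊤) Γ(M.obj w0', ⊤) := Module.compHom _ (b0'.appTop.hom.comp τ.appTop.hom)
  letI : Module Γ(T, ⊤) Γ(M.obj r', ⊤) := Module.compHom _ (br'.appTop.hom.comp τ.appTop.hom)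
  haveI : IsScalarTower Γ(T, ⊤) Γ(T', ⊤) Γ(M.obj w0', ⊤) := IsScalarTower.of_algebraMap_smul fun _ _ => rfl
  haveI : IsScalarTower Γ(T, ⊤) Γ(T', ⊤) Γ(M.obj r', ⊤) := IsScalarTower.of_algebraMap_smul fun _ _ => rfl
  have hcomp : ∀ {A B C : Scheme.{u}} (f : A ⟶ B) (g : B ⟶ C) (a : Γ(C, ⊤)),
      (f ≫ g).appTop a = f.appTop (g.appTop a) := fun f g a => by rw [Scheme.Hom.comp_appTop]; rfl
  let kM : Γ(M.obj w0, ⊤) →ₗ[Γ(T, ⊤)] Γ(M.obj w0', ⊤) :=
    { toFun := M.mapTop k
      map_add' := M.mapTop_add k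
      map_smul' := fun a z => by
        show M.mapTop k (b0.appTop a • z) = b0'.appTop (τ.appTop a) • M.mapTop k z
        rw [Mod.mapTop_smul, ← hcomp, hk.w, hcomp] }
  let lM : Γ(M.obj r, ⊤) →ₗ[Γ(T, ⊤)] Γ(M.obj r', ⊤) :=
    { toFun := M.mapTop l
      map_add' := M.mapTop_add l
      map_smul' := fun a z => by
        show M.mapTop l (br.appTop a • z) = br'.appTop (τ.appTop a) • M.mapTop l z
        rw [Mod.mapTop_smul, ← hcomp, hl.w, hcomp] }
  have hkM : IsBaseChange Γ(T', ⊤) kM :=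
    isBaseChange_mapTop M hMc hMq k τ b0 b0' hk rfl (fun _ _ => rfl) (fun _ _ => rfl) kM fun _ => rfl
  have hlM : IsBaseChange Γ(T', ⊤) lM :=
    isBaseChange_mapTop M hMc hMq l τ br br' hl rfl (fun _ _ => rfl) (fun _ _ => rfl) lM fun _ => rfl
  let L : (Fin n → Γ(M.obj w0, ⊤)) →ₗ[Γ(T, ⊤)] ((Fin m → Γ(M.obj w0, ⊤)) × (Fin n → Γ(M.obj r, ⊤))) :=
    { toFun := fun x => (fun j => ∑ i, b j i • x i, fun i => M.mapTop p (x i) - ∑ s, c i s • M.mapTop q (x s))
      map_add' := fun x y => Prod.ext (funext fun j => by simp [smul_add, Finset.sum_add_distrib])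
        (funext fun i => by simp [Mod.mapTop_add, smul_add, Finset.sum_add_distrib]; abel)
      map_smul' := fun a x => Prod.ext (funext fun j => by
          show ∑ i, b j i • (b0.appTop a • x i) = b0.appTop a • ∑ i, b j i • x i
          rw [Finset.smul_sum]
          exact Finset.sum_congr rfl fun i _ => smul_comm _ _ _)
        (funext fun i => by
          show M.mapTop p (b0.appTop a • x i) - ∑ s, c i s • M.mapTop q (b0.appTop a • x s) =
            br.appTop a • (M.mapTop p (x i) - ∑ s, c i s • M.mapTop q (x s))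
          rw [smul_sub, Finset.smul_sum, Mod.mapTop_smul, ← hcomp]
          congr 1
          refine Finset.sum_congr rfl fun s _ => ?_
          rw [Mod.mapTop_smul, ← hcomp, hpq]
          exact smul_comm _ _ _) }
  let b' : Fin m → Fin n → Γ(sch W w0', ⊤) := fun j i => (bmap W k).appTop (b j i)
  let c' : Fin n → Fin n → Γ(sch W r', ⊤) := fun i s => (bmap W l).appTop (c i s)
  let L' : (Fin n → Γ(M.obj w0', ⊤)) →ₗ[Γ(T', ⊤)] ((Fin m → Γ(M.obj w0', ⊤)) × (Fin n → Γ(M.obj r', ⊤))) :=
    { toFun := fun x => (fun j => ∑ i, b' j i • x i, fun i => M.mapTop p' (x i) - ∑ s, c' i s • M.mapTop q' (x s))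
      map_add' := fun x y => Prod.ext (funext fun j => by simp [smul_add, Finset.sum_add_distrib])
        (funext fun i => by simp [Mod.mapTop_add, smul_add, Finset.sum_add_distrib]; abel)
      map_smul' := fun a x => Prod.ext (funext fun j => by
          show ∑ i, b' j i • (b0'.appTop a • x i) = b0'.appTop a • ∑ i, b' j i • x i
          rw [Finset.smul_sum]
          exact Finset.sum_congr rfl fun i _ => smul_comm _ _ _)
        (funext fun i => by
          show M.mapTop p' (b0'.appTop a • x i) - ∑ s, c' i s • M.mapTop q' (b0'.appTop a • x s) =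
            br'.appTop a • (M.mapTop p' (x i) - ∑ s, c' i s • M.mapTop q' (x s))
          rw [smul_sub, Finset.smul_sum, Mod.mapTop_smul, ← hcomp]
          congr 1
          refine Finset.sum_congr rfl fun s _ => ?_
          rw [Mod.mapTop_smul, ← hcomp, hpq']
          exact smul_comm _ _ _) }
  have hkk : ∀ x : Fin n → Γ(M.obj w0, ⊤),
      L' (kM.compLeft (Fin n) x) = (kM.compLeft (Fin m)).prodMap (lM.compLeft (Fin n)) (L x) := fun x => by
    refine Prod.ext (funext fun j => ?_) (funext fun i => ?_)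
    · show ∑ i, b' j i • M.mapTop k (x i) = kM (∑ i, b j i • x i)
      rw [map_sum]
      exact Finset.sum_congr rfl fun i _ => (M.mapTop_smul k (b j i) (x i)).symm
    · show M.mapTop p' (M.mapTop k (x i)) - ∑ s, c' i s • M.mapTop q' (M.mapTop k (x s)) =
        lM (M.mapTop p (x i) - ∑ s, c i s • M.mapTop q (x s))
      rw [map_sub, map_sum, ← Mod.mapTop_comp, hp, Mod.mapTop_comp]
      congr 1
      refine Finset.sum_congr rfl fun s _ => ?_
      rw [← Mod.mapTop_comp M q', hq, Mod.mapTop_comp]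
      exact (M.mapTop_smul l (c i s) _).symm
  -- the given morphism satisfies the equations
  let y : Fin n → Γ(M.obj w0', ⊤) := fun i => h'.app ⊤ (E.mapTop k (e i))
  have hy : L' y = 0 := by
    refine Prod.ext (funext fun j => ?_) (funext fun i => ?_)
    · show ∑ i, b' j i • h'.app ⊤ (E.mapTop k (e i)) = 0
      have h1 : ∑ i, b' j i • E.mapTop k (e i) = 0 := by
        have := congrArg (E.mapTop k) (hbe j)
        rw [Mod.mapTop_zero] at this
        rw [← this, show E.mapTop k (∑ i, b j i • e i) = ∑ i, E.mapTop k (b j i • e i) from map_sum _ _ _]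
        exact Finset.sum_congr rfl fun i _ => (E.mapTop_smul k (b j i) (e i)).symm
      simp only [← QCohLib.app_smul]
      rw [← map_sum, h1, map_zero]
    · show M.mapTop p' (h'.app ⊤ (E.mapTop k (e i))) - ∑ s, c' i s • M.mapTop q' (h'.app ⊤ (E.mapTop k (e s))) = 0
      rw [sub_eq_zero, ← pull_app E M hEc, hh']
      simp only [← pull_app E M hEc q', ← QCohLib.app_smul]
      rw [← map_sum]
      congr 1
      rw [← Mod.mapTop_comp, hp, Mod.mapTop_comp, ← hce i,
        show E.mapTop l (∑ s, c i s • E.mapTop q (e s)) = ∑ s, E.mapTop l (c i s • E.mapTop q (e s)) from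
          map_sum _ _ _]
      refine Finset.sum_congr rfl fun s _ => ?_
      rw [Mod.mapTop_smul, ← Mod.mapTop_comp E l, ← hq, Mod.mapTop_comp]
  -- solutions downstairs are killed
  have hker : ∀ x : Fin n → Γ(M.obj w0, ⊤), L x = 0 → ∀ i, (u.app w0).app ⊤ (x i) = 0 := by
    intro x hx i
    let Φ : (Fin n → Γ(sch W w0, ⊤)) →ₗ[Γ(sch W w0, ⊤)] Γ(M.obj w0, ⊤) := Fintype.linearCombination Γ(sch W w0, ⊤) x
    have hΦ : LinearMap.ker π ≤ LinearMap.ker Φ := by
      rw [LinearMap.exact_iff.1 hex, LinearMap.range_le_ker_iff]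
      refine LinearMap.pi_ext' fun j => LinearMap.ext_ring ?_
      show Φ (g (Pi.single j 1)) = 0
      rw [Fintype.linearCombination_apply]
      exact congrFun (congrArg Prod.fst hx) j
    let t : Γ(E.obj w0, ⊤) →ₗ[Γ(sch W w0, ⊤)] Γ(M.obj w0, ⊤) :=
      (LinearMap.ker π).liftQ Φ hΦ ∘ₗ (π.quotKerEquivOfSurjective hπ).symm.toLinearMap
    have htπ : ∀ v, t (π v) = Φ v := fun v => by
      show (LinearMap.ker π).liftQ Φ hΦ ((π.quotKerEquivOfSurjective hπ).symm (π v)) = Φ v
      rw [show (π.quotKerEquivOfSurjective hπ).symm (π v) = Submodule.Quotient.mk v from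
        (π.quotKerEquivOfSurjective hπ).symm_apply_eq.2 rfl, Submodule.liftQ_apply]
    have hte : ∀ i, t (e i) = x i := fun i => by
      rw [htπ, Fintype.linearCombination_apply]
      simp [Pi.single_apply]
    obtain ⟨h0, hh0, -⟩ := OmegaAffLib.exists_hom_of_top (E.obj w0) (M.obj w0) t.toAddMonoidHom fun a z => map_smul t a z
    have h0e : ∀ i, h0.app ⊤ (e i) = x i := fun i => (hh0 _).trans (hte i)
    have hpq0 : pull E M hEc p h0 = pull E M hEc q h0 := by
      refine hom_ext_span _ (span_mapTop E hEc hEq p e hespan) fun i => ?_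
      rw [pull_app, h0e, ← hce i, map_sum]
      simp only [QCohLib.app_smul, pull_app, h0e]
      exact sub_eq_zero.1 (congrFun (congrArg Prod.snd hx) i)
    obtain ⟨h, hh⟩ := hW.exists_hom hEc hMc hMq h0 hpq0
    have h1 := congrArg (fun φ : E ⟶ N => (φ.app w0).app ⊤ (e i)) (hu h)
    rw [← h0e i, ← hh]
    exact h1
  have hzero : ∀ z ∈ Submodule.span Γ(T', ⊤) ((kM.compLeft (Fin n)) '' (LinearMap.ker L : Set _)),
      ∀ i, (u.app w0').app ⊤ (z i) = 0 := by
    intro z hz
    induction hz using Submodule.span_induction with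
    | mem z hz =>
      obtain ⟨x, hx, rfl⟩ := hz
      intro i
      show (u.app w0').app ⊤ (M.mapTop k (x i)) = 0
      rw [← Mod.mapTop_app, hker x hx i, Mod.mapTop_zero]
    | zero => exact fun i => map_zero _
    | add a a' _ _ ha ha' => intro i; rw [Pi.add_apply, map_add, ha, ha', add_zero]
    | smul s a _ ha =>
      intro i
      show (u.app w0').app ⊤ (b0'.appTop s • a i) = 0
      rw [QCohLib.app_smul, ha, smul_zero]
  have hy' := hzero y (mem_span_ker_of_flat (hkM.finitePow (Fin n))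
    (IsBaseChange.prodMap _ _ (hkM.finitePow (Fin m)) (hlM.finitePow (Fin n))) L L' hkk y hy)
  exact hom_ext_span _ (span_mapTop E hEc hEq k e hespan) fun i => hy' i

end GenDescLib
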