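import Groth.Agent.GenDescLib.Atlas

/-!
# Flat affine charts of the base lifting to a flat family of stacks
-/

set_option autoImplicit false
set_option linter.style.haveILetI false
set_option backward.isDefEq.respectTransparency false
set_option backward.isDefEq.respectTransparency.types false
set_option maxHeartbeats 800000

universe u

open CategoryTheory CategoryTheory.Limits AlgebraicGeometry AlgSp AlgSpLib FibCat FibLib AlgStLib IsoNatLib IsoNatSepLib Opposite StMod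
open CategoryTheory.Functor (Fiber IsPreFibered IsStronglyCartesian)

noncomputable section

namespace GenDescLib

variable {S : Scheme.{u}}

/-- Morphisms in a slice category over a morphism. -/
theorem overCat_comm {V A B : Over S} {o' o : (overCat V).obj} (k : o' ⟶ o) (c : A ⟶ B)
    (h : (overCat V).p.IsHomLift c k) (e' : o'.left = A) (e : o.left = B) :
    eqToHom e'.symm ≫ o'.hom = c ≫ eqToHom e.symm ≫ o.hom := by
  subst e' e
  have := @IsHomLift.fac' _ _ _ _ (overCat V).p _ _ _ _ c k h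
  rw [← Over.w k]
  simp only [eqToHom_refl, Category.id_comp]
  rw [show k.left = c from this.trans (by simp)]

theorem range_eq_of_lift {𝒵 : AlgSt.Cat S} {a b : 𝒵.obj} {A B : Over S} (c : A ⟶ B) (k : a ⟶ b)
    (h : 𝒵.p.IsHomLift c k) (hb : B = 𝒵.p.obj b) (t : sch 𝒵 b)
    (ht : t ∈ Set.range (c ≫ eqToHom hb).left) : t ∈ Set.range (bmap 𝒵 k) := by
  have ha := @IsHomLift.domain_eq _ _ _ _ 𝒵.p _ _ _ _ c k h
  subst ha
  subst hb
  have := @IsHomLift.fac' _ _ _ _ 𝒵.p _ _ _ _ c k h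
  obtain rfl : 𝒵.p.map k = c := by simpa using this
  rw [eqToHom_refl, Category.comp_id] at ht
  exact ht

theorem prop_of_lift {P : MorphismProperty Scheme.{u}} {𝒵 : AlgSt.Cat S} {a b : 𝒵.obj} {A B : Over S} (c : A ⟶ B)
    (k : a ⟶ b) (h : 𝒵.p.IsHomLift c k) (hc : P c.left) : P (bmap 𝒵 k) := by
  have ha := @IsHomLift.domain_eq _ _ _ _ 𝒵.p _ _ _ _ c k h
  have hb := @IsHomLift.codomain_eq _ _ _ _ 𝒵.p _ _ _ _ c k h
  subst ha hb
  have := @IsHomLift.fac' _ _ _ _ 𝒵.p _ _ _ _ c k h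
  obtain rfl : 𝒵.p.map k = c := by simpa using this
  exact hc

variable {𝒴 : AlgSt.Cat S} [IsFibGrpd 𝒴.p]

/-- The field-valued point of the target at a point of the scheme of an object. -/
theorem exists_point_at (η : 𝒴.obj) (t : sch 𝒴 η) :
    ∃ (P : AlgSt.FPt 𝒴) (b : P.obj ⟶ η), ∀ ρ : sch 𝒴 P.obj, bmap 𝒴 b ρ = t := by
  let T := 𝒴.p.obj η
  let ι : Over.mk (T.left.fromSpecResidueField t ≫ T.hom) ⟶ T := Over.homMk (T.left.fromSpecResidueField t) rfl
  obtain ⟨ηt, b, hb⟩ := IsoNatLib.exists_pullback ι (Fiber.mk (p := 𝒴.p) (a := η) rfl)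
  refine ⟨{ K := ↥(T.left.residueField t), str := T.left.fromSpecResidueField t ≫ T.hom, obj := ηt.1, lies := ηt.2 },
    b, fun ρ => ?_⟩
  have h := @IsHomLift.fac' _ _ _ _ 𝒴.p _ _ _ _ ι b hb
  show (𝒴.p.map b).left ρ = t
  rw [h]
  simp only [Over.comp_left, Over.eqToHom_left, eqToHom_refl]
  erw [Scheme.Hom.comp_apply]
  exact Set.mem_singleton_iff.1 ((Scheme.range_fromSpecResidueField t).le ⟨_, rfl⟩)

/-- A point of the base in the image of a flat morphism lifts to a flat affine chart. -/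
theorem exists_lift_near {Q : MorphismProperty Scheme.{u}} [Q.IsStableUnderBaseChange]
    [Q.IsStableUnderComposition] (hsm : ∀ {A B : Scheme.{u}} (g : A ⟶ B), Smooth g → Q g)
    (hQ : ∀ {A B : Over S} (g : A ⟶ B), LocP Q ((yon S).map g) → Q g.left)
    {𝒴' : AlgSt.Cat S} [IsFibGrpd 𝒴'.p] {u : 𝒴' ⥤ᵇ 𝒴} (hfl : AlgSt.LocQ (LocP Q) u)
    (η : 𝒴.obj) (t : sch 𝒴 η) (P : AlgSt.FPt 𝒴) (b : P.obj ⟶ η) (hb : ∀ ρ : sch 𝒴 P.obj, bmap 𝒴 b ρ = t)
    (q : AlgSt.Points 𝒴') (hq : AlgSt.Points.map u q = AlgSt.Points.mk P) :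
    ∃ (η' : 𝒴'.obj) (m : u.obj η' ⟶ η), IsAffine (sch 𝒴' η') ∧ Q (bmap 𝒴 m) ∧ t ∈ Set.range (bmap 𝒴 m) := by
  obtain ⟨U, V, x, y, h, α, hx, hxs, hy, hh⟩ := hfl
  have hflh : Q h.left := hQ h hh
  haveI := AlgStLib.isFibGrpd_overCat U
  haveI := AlgStLib.isFibGrpd_overCat V
  obtain ⟨z0, rfl⟩ := surjective_of_repByAlgSpWith hxs q
  obtain ⟨Z0, rfl⟩ := AlgSt.Points.mk_surjective z0
  rw [AlgSt.Points.map_mk, AlgSt.Points.map_mk, mk_eq_mk_iff] at hq
  obtain ⟨R, a, br, -⟩ := hq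
  let o : Over U := Z0.obj
  -- the object of the chart over the common point
  let a' : R.obj ⟶ y.obj ((AlgSt.overMap h).obj o) := a ≫ (appIso α o).hom
  let T := 𝒴.p.obj η
  let Tr := 𝒴.p.obj R.obj
  let ca : Tr ⟶ o.left := 𝒴.p.map a' ≫ eqToHom (y.w_obj _)
  have hca : 𝒴.p.IsHomLift ca a' := IsHomLift.of_fac' 𝒴.p _ _ rfl (y.w_obj _) (by simp [ca])
  let gr : Tr ⟶ V := ca ≫ o.hom ≫ h
  let mr : (Over.mk gr : Over V) ⟶ (AlgSt.overMap h).obj o := Over.homMk ca (by rfl)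
  have hmr : 𝒴.p.IsHomLift ca (y.map mr) := FibLib.lift_map y mr
  obtain ⟨e, he, -⟩ := exists_fac (g := 𝟙 Tr) a' hca (y.map mr) (lift_congr (Category.id_comp ca).symm hmr)
  let z : 𝒴.p.Fiber T := Fiber.mk (p := 𝒴.p) (a := η) rfl
  let Er : Elt y z Tr := ⟨𝒴.p.map (br ≫ b), Fiber.mk (p := (overCat V).p) (a := Over.mk gr) rfl, e ≫ br ≫ b,
    lift_congr (Category.id_comp _) (comp_lift he (IsHomLift.map 𝒴.p (br ≫ b)))⟩
  obtain ⟨K, aK, hK, hKsm, -, ⟨C⟩⟩ := exists_classifier hy z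
  obtain ⟨Uk, bk, hbk, hbks⟩ := hK.atlas
  obtain ⟨c, hc⟩ := (yon S).map_surjective (bk ≫ aK)
  haveI hcs : Smooth c.left := (AlgSpLib.locP_yon_map_iff (P := @Smooth) c).1
    (hc ▸ (good_locP @Smooth : Good (LocP @Smooth : MorphismProperty (Sp S))).comp (IsAlgSpace.yon_obj _) hK
      (IsAlgSpace.yon_obj _) _ _ (AlgSpLib.locP_mono (fun _ _ f (hf : Etale f) => (inferInstance : Smooth f))
        (AlgSpLib.locP_of_repWith hbk)) hKsm)
  obtain ⟨Eb, hEb⟩ := C.exists_elt bk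
  have hbase : Eb.base = c := (yon S).map_injective (by rw [← C.cls_comp Eb, hEb, hc])
  obtain ⟨W', pW, qW, sq⟩ := AlgSpLib.exists_isPullback_yon bk (C.cls Er) hbk.1
  haveI : Surjective qW.left := hbks.2 _ _ _ sq
  obtain ⟨E', hE'⟩ := exists_pullback_elt qW Er
  have hEb' : EHom pW E' Eb := C.ehom_of_comp (by rw [C.cls_map hE', hEb, sq.w])
  let g : Uk ⟶ V := eqToHom Eb.obj.2.symm ≫ Eb.obj.1.hom
  have hg : pW ≫ g = qW ≫ gr := by
    obtain ⟨k1, hk1, -⟩ := hE'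
    obtain ⟨k2, hk2, -⟩ := hEb'
    have h1 := overCat_comm k1 qW hk1 E'.obj.2 rfl
    have h2 := overCat_comm k2 pW hk2 E'.obj.2 Eb.obj.2
    rw [h1] at h2
    simpa [g, Er, Fiber.mk] using h2.symm
  -- a point above
  have hne : Nonempty ↥Tr.left := by
    have e1 : Tr.left = Spec (CommRingCat.of R.K) := congrArg Comma.left R.lies
    rw [e1]; infer_instance
  obtain ⟨ρ⟩ := hne
  obtain ⟨ρ', hρ'⟩ := Surjective.surj (f := qW.left) ρ
  have hpt : g.left (pW.left ρ') = h.left ((ca ≫ o.hom).left (qW.left ρ')) := by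
    rw [← Scheme.Hom.comp_apply, ← Scheme.Hom.comp_apply, ← Scheme.Hom.comp_apply, ← Over.comp_left, hg]
    simp [gr]
  obtain ⟨v, hv1, hv2⟩ := Scheme.Pullback.exists_preimage_pullback (f := g.left) (g := h.left)
    (pW.left ρ') ((ca ≫ o.hom).left (qW.left ρ')) hpt
  obtain ⟨O, hO, hvO, -⟩ := exists_isAffineOpen_mem_and_subset (x := v) (U := ⊤) trivial
  let O' : Over S := Over.mk (O.ι ≫ pullback.fst g.left h.left ≫ Uk.hom)
  let kO : O' ⟶ Uk := Over.homMk (O.ι ≫ pullback.fst g.left h.left) (Category.assoc _ _ _)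
  let s : O' ⟶ U := Over.homMk (O.ι ≫ pullback.snd g.left h.left) (by
    show (O.ι ≫ pullback.snd g.left h.left) ≫ U.hom = O.ι ≫ pullback.fst g.left h.left ≫ Uk.hom
    rw [Category.assoc, ← Over.w h, ← Over.w g, pullback.condition_assoc])
  have hsh : s ≫ h = kO ≫ g := Over.OverMorphism.ext (by simp [s, kO, pullback.condition])
  let η' : 𝒴'.obj := x.obj (Over.mk s)
  have hη' : 𝒴'.p.obj η' = O' := x.w_obj _
  let m1 : u.obj η' ⟶ y.obj ((AlgSt.overMap h).obj (Over.mk s)) := (appIso α (Over.mk s)).hom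
  have hm1 : 𝒴.p.IsHomLift (𝟙 O') m1 := appIso_lift α rfl
  let kk : (AlgSt.overMap h).obj (Over.mk s) ⟶ Eb.obj.1 := Over.homMk (kO ≫ eqToHom Eb.obj.2.symm) (by
    show (kO ≫ eqToHom Eb.obj.2.symm) ≫ Eb.obj.1.hom = s ≫ h
    rw [hsh, Category.assoc])
  have hkk : 𝒴.p.IsHomLift (kO ≫ eqToHom Eb.obj.2.symm) (y.map kk) := FibLib.lift_map y kk
  have hmap : 𝒴.p.IsHomLift (eqToHom Eb.obj.2 ≫ c) (Eb.map : y.obj Eb.obj.1 ⟶ η) := by
    rw [← hbase]
    haveI : 𝒴.p.IsHomLift Eb.base (Eb.map : y.obj Eb.obj.1 ⟶ η) := Eb.lift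
    infer_instance
  let m : u.obj η' ⟶ η := m1 ≫ y.map kk ≫ Eb.map
  have hm : 𝒴.p.IsHomLift (kO ≫ c) m := lift_congr (by simp) (comp_lift hm1 (comp_lift hkk hmap))
  have hflat : Q (kO ≫ c).left :=
    Q.comp_mem _ _ (Q.comp_mem _ _ (hsm O.ι inferInstance) (MorphismProperty.pullback_fst _ _ hflh)) (hsm c.left hcs)
  have haff : IsAffine (sch 𝒴' η') := by
    change IsAffine (𝒴'.p.obj η').left
    rw [hη']; exact hO
  refine ⟨η', m, haff, prop_of_lift (P := Q) (kO ≫ c) m hm hflat, ?_⟩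
  have ht : t ∈ Set.range (kO ≫ c).left := by
    refine ⟨⟨v, hvO⟩, ?_⟩
    show c.left ((pullback.fst g.left h.left) v) = t
    rw [hv1]
    have h3 : c.left (pW.left ρ') = (𝒴.p.map (br ≫ b)).left (qW.left ρ') := by
      have h4 : pW ≫ c = qW ≫ 𝒴.p.map (br ≫ b) := by rw [← hbase, ← hE'.base_eq, ← hEb'.base_eq]
      rw [← Scheme.Hom.comp_apply, ← Scheme.Hom.comp_apply, ← Over.comp_left, ← Over.comp_left, h4]
    rw [h3, Functor.map_comp, Over.comp_left, Scheme.Hom.comp_apply]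
    exact hb _
  exact range_eq_of_lift (𝒵 := 𝒴) (kO ≫ c) m hm rfl t (by rw [eqToHom_refl, Category.comp_id]; exact ht)

end GenDescLib
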