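import Groth.Agent.GenDescLib.Comm
import Groth.Agent.GenDescLib.FibMap
import Groth.Agent.IsoNatSepLib.Transfer

/-!
# Generation over an object of the source of a base change
-/

set_option autoImplicit false
set_option linter.style.haveILetI false
set_option backward.isDefEq.respectTransparency false
set_option backward.isDefEq.respectTransparency.types false
set_option maxHeartbeats 800000

universe u

open CategoryTheory CategoryTheory.Limits AlgebraicGeometry AlgSp FibCat FibLib AlgStLib IsoNatLib IsoNatSepLib Opposite StMod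
open CategoryTheory.Functor (Fiber IsPreFibered IsStronglyCartesian)

noncomputable section

namespace GenDescLib

variable {S : Scheme.{u}} {𝒳 𝒴 𝒴' : AlgSt.Cat S} {f : 𝒳 ⥤ᵇ 𝒴} {v : 𝒴' ⥤ᵇ 𝒴}

/-- The category over an object of the base change maps to the category over its image. -/
def fibPush (f : 𝒳 ⥤ᵇ 𝒴) (v : 𝒴' ⥤ᵇ 𝒴) (η' : 𝒴'.obj) : fibCat (fpSnd f v) η' ⥤ᵇ fibCat f (v.obj η') where
  toFunctor :=
    { obj := fun z => CostructuredArrow.mk (S := f.toFunctor) (Y := z.left.obj.fst) (z.left.obj.iso.hom ≫ v.map z.hom)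
      map := fun {z z'} g => CostructuredArrow.homMk g.left.hom.fst (by
        show f.map g.left.hom.fst ≫ z'.left.obj.iso.hom ≫ v.map z'.hom = z.left.obj.iso.hom ≫ v.map z.hom
        have h1 : f.map g.left.hom.fst ≫ z'.left.obj.iso.hom = z.left.obj.iso.hom ≫ v.map g.left.hom.snd :=
          g.left.hom.w
        rw [← Category.assoc, h1, Category.assoc, ← v.toFunctor.map_comp]
        exact congrArg (fun t => z.left.obj.iso.hom ≫ v.map t) (CostructuredArrow.w g))
      map_id := fun _ => CostructuredArrow.hom_ext _ _ rfl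
      map_comp := fun _ _ => CostructuredArrow.hom_ext _ _ rfl }
  w := rfl

variable [IsFibGrpd 𝒳.p] [IsFibGrpd 𝒴.p] [IsFibGrpd 𝒴'.p]

/-- Morphisms lift along the push. -/
theorem exists_fibPush_map {η' : 𝒴'.obj} {z z' : (fibCat (fpSnd f v) η').obj}
    (θ : (fibPush f v η').obj z ⟶ (fibPush f v η').obj z') :
    ∃ g : z ⟶ z', (fibPush f v η').map g = θ := by
  let c : 𝒳.p.obj z.left.obj.fst ⟶ 𝒳.p.obj z'.left.obj.fst := 𝒳.p.map θ.left
  have hθ : 𝒳.p.IsHomLift c θ.left := IsHomLift.map 𝒳.p θ.left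
  have hz : 𝒴.p.IsHomLift (𝟙 (𝒳.p.obj z.left.obj.fst)) z.left.obj.iso.hom := z.left.property
  have hz' : 𝒴.p.IsHomLift (𝟙 (𝒳.p.obj z'.left.obj.fst)) z'.left.obj.iso.hom := z'.left.property
  have hs : ∀ w : (fibCat (fpSnd f v) η').obj, 𝒴'.p.obj w.left.obj.snd = 𝒳.p.obj w.left.obj.fst :=
    fun w => FibLib.obj_snd_eq w.left
  let β : ∀ w : (fibCat (fpSnd f v) η').obj, 𝒳.p.obj w.left.obj.fst ⟶ 𝒴'.p.obj η' := fun w =>
    eqToHom (hs w).symm ≫ 𝒴'.p.map w.hom
  have hβ : ∀ w : (fibCat (fpSnd f v) η').obj, 𝒴'.p.IsHomLift (β w) w.hom := fun w =>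
    IsHomLift.of_fac' 𝒴'.p _ _ (hs w) rfl (by simp [β])
  have e : f.map θ.left ≫ z'.left.obj.iso.hom ≫ v.map z'.hom = z.left.obj.iso.hom ≫ v.map z.hom :=
    CostructuredArrow.w θ
  have hcβ : β z = c ≫ β z' := by
    have l1 : 𝒴.p.IsHomLift (c ≫ β z') (f.map θ.left ≫ z'.left.obj.iso.hom ≫ v.map z'.hom) :=
      lift_congr (by rw [Category.id_comp]) (comp_lift (fun_lift f hθ) (comp_lift hz' (fun_lift v (hβ z'))))
    have l2 : 𝒴.p.IsHomLift (β z) (z.left.obj.iso.hom ≫ v.map z.hom) :=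
      lift_congr (Category.id_comp _) (comp_lift hz (fun_lift v (hβ z)))
    rw [e] at l1
    exact eq_of_lifts 𝒴.p _ l2 l1
  obtain ⟨b, hb, eb⟩ := exists_fac (𝒳 := 𝒴') (g := c) z'.hom (hβ z') z.hom (lift_congr hcβ (hβ z))
  have w : f.map θ.left ≫ z'.left.obj.iso.hom = z.left.obj.iso.hom ≫ v.map b := by
    refine eq_of_fac (fun_lift v (hβ z')) (lift_congr (Category.comp_id c) (comp_lift (fun_lift f hθ) hz'))
      (lift_congr (Category.id_comp c) (comp_lift hz (fun_lift v hb))) ?_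
    rw [Category.assoc, Category.assoc, e, ← v.toFunctor.map_comp, eb]
  exact ⟨CostructuredArrow.homMk (fpHom θ.left b w) eb, CostructuredArrow.hom_ext _ _ rfl⟩

/-- Every object is isomorphic to a pushed one. -/
theorem exists_fibPush_obj {η' : 𝒴'.obj} (x : (fibCat f (v.obj η')).obj) :
    ∃ (z : (fibCat (fpSnd f v) η').obj) (k : x ≅ (fibPush f v η').obj z), True := by
  let T := 𝒳.p.obj x.left
  let c : T ⟶ 𝒴'.p.obj η' := baseOver f x.left x.hom ≫ eqToHom (v.w_obj η')
  obtain ⟨ζ, m, hm⟩ := IsoNatLib.exists_pullback c (Fiber.mk (p := 𝒴'.p) (a := η') rfl)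
  have hvm : 𝒴.p.IsHomLift c (v.map m) := fun_lift v hm
  have hx : 𝒴.p.IsHomLift c x.hom :=
    IsHomLift.of_fac' 𝒴.p _ _ (f.w_obj x.left) (v.w_obj η') (by simp [c, baseOver, T])
  obtain ⟨θ, hθ, eθ⟩ := exists_fac (𝒳 := 𝒴) (g := 𝟙 T) (v.map m) hvm x.hom (lift_congr (Category.id_comp c).symm hx)
  haveI := hθ
  haveI : IsIso θ := isIso_of_isHomLift 𝒴.p (𝟙 T) θ
  let z : (fibCat (fpSnd f v) η').obj :=
    CostructuredArrow.mk (S := (fpSnd f v).toFunctor) (Y := fpObj x.left ζ.1 (asIso θ) hθ) m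
  exact ⟨z, CostructuredArrow.isoMk (Iso.refl x.left) (by
    show f.map (𝟙 x.left) ≫ θ ≫ v.map m = x.hom
    rw [f.toFunctor.map_id]; erw [Category.id_comp]; exact eθ), trivial⟩

theorem comap_fibPush_map {η' : 𝒴'.obj} (M : Mod (fibCat f (v.obj η'))) {z' z : (fibCat (fpSnd f v) η').obj}
    (φ : z' ⟶ z) : (Mod.comap (fibPush f v η') M).map φ rfl = M.map ((fibPush f v η').map φ) rfl := by
  rw [Mod.comap_map]
  exact castMap_rfl_self _ _

theorem flat_surjective_iso {W : AlgSt.Cat S} {x y : W.obj} (k : x ≅ y) :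
    Flat (bmap W k.hom) ∧ Surjective (bmap W k.hom) := by
  haveI : IsIso (bmap W k.hom) := ⟨bmap W k.inv, by rw [← bmap_comp, k.hom_inv_id, bmap_id],
    by rw [← bmap_comp, k.inv_hom_id, bmap_id]⟩
  exact ⟨inferInstance, inferInstance⟩

/-- Generation over an object of the source of a base change gives generation over its image. -/
theorem isGenFam_of_fibPush {η' : 𝒴'.obj} {ι : Type u} (E : ι → QCoh 𝒳)
    (h : IsGenFam (fun i => (comapQ (fibFst (fpSnd f v) η')).obj ((comapQ (fpFst f v)).obj (E i)))) :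
    IsGenFam (fun i => (comapQ (fibFst f (v.obj η'))).obj (E i)) := by
  rw [isGenFam_iff] at h ⊢
  intro M N u hu
  let Φ := fibPush f v η'
  have hΦ : (comapQ Φ).map u = 0 := by
    refine h _ fun i φ' => ?_
    let E0 := (comapQ (fibFst f (v.obj η'))).obj (E i)
    have hEc := E0.property.1
    choose z k _ using fun x => exists_fibPush_obj (f := f) (v := v) (η' := η') x
    let φ'a : ∀ z, E0.obj.obj (Φ.obj z) ⟶ M.obj.obj (Φ.obj z) := fun z => φ'.app z
    have hc : ∀ {z1 z2} (g : z1 ⟶ z2), φ'a z1 = pull E0.obj M.obj hEc (Φ.map g) (φ'a z2) := fun {z1 z2} g => by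
      refine (eq_pull_iff E0.obj M.obj hEc (Φ.map g) (φ'a z2) (φ'a z1)).2 ?_
      have h1 := φ'.comm g rfl
      simp only [comapQ_obj_obj, Φ, comap_fibPush_map] at h1
      have h2 : (Mod.comap (fibFst (fpSnd f v) η') (Mod.comap (fpFst f v) (E i).obj)).map g rfl =
          E0.obj.map (Φ.map g) rfl := by
        simp only [E0, comapQ_obj_obj, Mod.comap_map]
        exact (castMap_rfl_self _ _).trans ((castMap_rfl_self _ _).trans (castMap_rfl_self _ _).symm)
      exact (congrArg (fun t => t ≫ _) h2.symm).trans h1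
    let app : ∀ x, E0.obj.obj x ⟶ M.obj.obj x := fun x => pull E0.obj M.obj hEc (k x).hom (φ'a (z x))
    have happ : ∀ {x' x} (θ : x' ⟶ x), app x' = pull E0.obj M.obj hEc θ (app x) := fun {x' x} θ => by
      obtain ⟨g, hg⟩ := exists_fibPush_map ((k x').inv ≫ θ ≫ (k x).hom)
      show pull E0.obj M.obj hEc (k x').hom (φ'a (z x')) = _
      rw [hc g, hg, ← pull_comp, ← pull_comp, Iso.hom_inv_id_assoc]
    let φ : E0.obj ⟶ M.obj := ⟨app, fun {x' x} θ g hg => by
      rw [happ θ]; exact pull_comm E0.obj M.obj hEc θ (app x) hg⟩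
    refine Mod.hom_ext fun w => ?_
    obtain ⟨g, hg⟩ := exists_fibPush_map (k (Φ.obj w)).hom
    have e : φ.app (Φ.obj w) = φ'a w := by
      show pull E0.obj M.obj hEc (k (Φ.obj w)).hom (φ'a (z (Φ.obj w))) = _
      rw [hc g, hg]
    have h1 := congrArg (fun t : E0.obj ⟶ N.obj => t.app (Φ.obj w)) (hu i φ)
    show φ'a w ≫ u.hom.app (Φ.obj w) = 0
    rw [← e]
    exact h1
  refine InducedCategory.hom_ext (Mod.hom_ext fun x => ?_)
  obtain ⟨z, k, -⟩ := exists_fibPush_obj (f := f) (v := v) (η' := η') x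
  have h0 : u.hom.app (Φ.obj z) = 0 :=
    congrArg (fun t : (comapQ Φ).obj M ⟶ (comapQ Φ).obj N => t.hom.app z) hΦ
  rw [app_eq_pull M.obj N.obj M.property.1 k.hom, h0, pull_zero]
  rfl

end GenDescLib
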