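import Groth.Agent.GenDescLib.Push
import Groth.Agent.GenDescLib.Transfer
import Groth.Agent.GenDescLib.Atlas
import Groth.Agent.GenDescLib.Cover

/-!
# Generation from flat affine charts of the base
-/

set_option autoImplicit false
set_option linter.style.haveILetI false
set_option backward.isDefEq.respectTransparency false
set_option backward.isDefEq.respectTransparency.types false
set_option maxHeartbeats 800000

universe u

open CategoryTheory CategoryTheory.Limits AlgebraicGeometry AlgSp AlgSpLib FibCat FibLib AlgStLib IsoNatLib IsoNatSepLib Opposite StMod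
open CategoryTheory.Functor (Fiber IsPreFibered IsStronglyCartesian)

noncomputable section

namespace GenDescLib

variable {S : Scheme.{u}} {𝒳 𝒴 : AlgSt.Cat S} {f : 𝒳 ⥤ᵇ 𝒴} {T : Over S} {y : overCat T ⥤ᵇ 𝒴}

/-- The scheme itself, as an object of its slice category. -/
def topObj (T : Over S) : (overCat T).obj := (Over.mk (𝟙 T) : Over T)

/-- The morphism of an object to the scheme itself. -/
def toTop (o : (overCat T).obj) : o ⟶ topObj T :=
  (Over.homMk (U := (o : Over T)) (V := Over.mk (𝟙 T)) (o : Over T).hom (Category.comp_id _))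

theorem topObj_hom_ext {o : (overCat T).obj} (g g' : o ⟶ topObj T) : g = g' := by
  refine Over.OverMorphism.ext ?_
  exact (Category.comp_id _).symm.trans ((Over.w g).trans ((Over.w g').symm.trans (Category.comp_id _)))

/-- The fibre product with a chart as a category over the projection. -/
def toFibTop (f : 𝒳 ⥤ᵇ 𝒴) (y : overCat T ⥤ᵇ 𝒴) : fp f y ⥤ᵇ fibCat (fpSnd f y) (topObj T) where
  toFunctor :=
    { obj := fun z => CostructuredArrow.mk (S := (fpSnd f y).toFunctor) (Y := z) (toTop _)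
      map := fun g => CostructuredArrow.homMk g (topObj_hom_ext _ _)
      map_id := fun _ => CostructuredArrow.hom_ext _ _ rfl
      map_comp := fun _ _ => CostructuredArrow.hom_ext _ _ rfl }
  w := rfl

/-- The fibre product with a chart maps to the category over the object of the chart. -/
def chartPush (f : 𝒳 ⥤ᵇ 𝒴) (y : overCat T ⥤ᵇ 𝒴) : fp f y ⥤ᵇ fibCat f (y.obj (topObj T)) :=
  BasedFunctor.comp (toFibTop f y) (fibPush f y (topObj T))

variable [IsFibGrpd 𝒳.p] [IsFibGrpd 𝒴.p]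

theorem exists_chartPush_map {z z' : (fp f y).obj} (θ : (chartPush f y).obj z ⟶ (chartPush f y).obj z') :
    ∃ g : z ⟶ z', (chartPush f y).map g = θ := by
  haveI := AlgStLib.isFibGrpd_overCat T
  obtain ⟨g, hg⟩ := exists_fibPush_map (f := f) (v := y) (z := (toFibTop f y).obj z) (z' := (toFibTop f y).obj z') θ
  exact ⟨g.left, (CostructuredArrow.hom_ext _ _ rfl).trans hg⟩

theorem exists_chartPush_obj (x : (fibCat f (y.obj (topObj T))).obj) :
    ∃ (z : (fp f y).obj) (k : x ≅ (chartPush f y).obj z), True := by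
  haveI := AlgStLib.isFibGrpd_overCat T
  obtain ⟨z, k, -⟩ := exists_fibPush_obj (f := f) (v := y) (η' := topObj T) x
  exact ⟨z.left, k ≪≫ (fibPush f y (topObj T)).toFunctor.mapIso
    (CostructuredArrow.isoMk (Iso.refl z.left) (topObj_hom_ext _ _) : z ≅ (toFibTop f y).obj z.left), trivial⟩

theorem comap_chartPush_map (M : Mod (fibCat f (y.obj (topObj T)))) {z' z : (fp f y).obj} (φ : z' ⟶ z) :
    (Mod.comap (chartPush f y) M).map φ rfl = M.map ((chartPush f y).map φ) rfl := by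
  rw [Mod.comap_map]
  exact castMap_rfl_self _ _

/-- Generation on the fibre product with a chart gives generation over the object of the chart. -/
theorem isGenFam_of_chartPush {ι : Type u} (E : ι → QCoh 𝒳)
    (h : IsGenFam (fun i => (comapQ (fpFst f y)).obj (E i))) :
    IsGenFam (fun i => (comapQ (fibFst f (y.obj (topObj T)))).obj (E i)) := by
  rw [isGenFam_iff] at h ⊢
  intro M N u hu
  let Φ := chartPush f y
  have hΦ : (comapQ Φ).map u = 0 := by
    refine h _ fun i φ' => ?_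
    let E0 := (comapQ (fibFst f (y.obj (topObj T)))).obj (E i)
    have hEc := E0.property.1
    choose z k _ using fun x => exists_chartPush_obj (f := f) (y := y) x
    let φ'a : ∀ z, E0.obj.obj (Φ.obj z) ⟶ M.obj.obj (Φ.obj z) := fun z => φ'.app z
    have hc : ∀ {z1 z2} (g : z1 ⟶ z2), φ'a z1 = pull E0.obj M.obj hEc (Φ.map g) (φ'a z2) := fun {z1 z2} g => by
      refine (eq_pull_iff E0.obj M.obj hEc (Φ.map g) (φ'a z2) (φ'a z1)).2 ?_
      have h1 := φ'.comm g rfl
      simp only [comapQ_obj_obj, Φ, comap_chartPush_map] at h1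
      have h2 : (Mod.comap (fpFst f y) (E i).obj).map g rfl = E0.obj.map (Φ.map g) rfl := by
        simp only [E0, comapQ_obj_obj, Mod.comap_map]
        exact (castMap_rfl_self _ _).trans (castMap_rfl_self _ _).symm
      exact (congrArg (fun t => t ≫ _) h2.symm).trans h1
    let app : ∀ x, E0.obj.obj x ⟶ M.obj.obj x := fun x => pull E0.obj M.obj hEc (k x).hom (φ'a (z x))
    have happ : ∀ {x' x} (θ : x' ⟶ x), app x' = pull E0.obj M.obj hEc θ (app x) := fun {x' x} θ => by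
      obtain ⟨g, hg⟩ := exists_chartPush_map ((k x').inv ≫ θ ≫ (k x).hom)
      show pull E0.obj M.obj hEc (k x').hom (φ'a (z x')) = _
      rw [hc g, hg, ← pull_comp, ← pull_comp, Iso.hom_inv_id_assoc]
    let φ : E0.obj ⟶ M.obj := ⟨app, fun {x' x} θ g hg => by
      rw [happ θ]; exact pull_comm E0.obj M.obj hEc θ (app x) hg⟩
    refine Mod.hom_ext fun w => ?_
    obtain ⟨g, hg⟩ := exists_chartPush_map (k (Φ.obj w)).hom
    have e : φ.app (Φ.obj w) = φ'a w := by
      show pull E0.obj M.obj hEc (k (Φ.obj w)).hom (φ'a (z (Φ.obj w))) = _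
      rw [hc g, hg]
    have h1 := congrArg (fun t : E0.obj ⟶ N.obj => t.app (Φ.obj w)) (hu i φ)
    show φ'a w ≫ u.hom.app (Φ.obj w) = 0
    rw [← e]
    exact h1
  refine InducedCategory.hom_ext (Mod.hom_ext fun x => ?_)
  obtain ⟨z, k, -⟩ := exists_chartPush_obj (f := f) (y := y) x
  have h0 : u.hom.app (Φ.obj z) = 0 :=
    congrArg (fun t : (comapQ Φ).obj M ⟶ (comapQ Φ).obj N => t.hom.app z) hΦ
  rw [app_eq_pull M.obj N.obj M.property.1 k.hom, h0, pull_zero]
  rfl

/-- A point of the base in the image of a flat representable chart lifts to a flat affine object. -/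
theorem exists_chart_near (hy : AlgSt.RepByAlgSpWith (LocP @Flat) y)
    (η : 𝒴.obj) (t : sch 𝒴 η) (P : AlgSt.FPt 𝒴) (b : P.obj ⟶ η) (hb : ∀ ρ : sch 𝒴 P.obj, bmap 𝒴 b ρ = t)
    (t0 : T.left) (hq : AlgSt.Points.ofChart y t0 = AlgSt.Points.mk P) :
    ∃ (o : (overCat T).obj) (m : y.obj o ⟶ η), IsAffine (sch 𝒴 (y.obj o)) ∧ Flat (bmap 𝒴 m) ∧
      t ∈ Set.range (bmap 𝒴 m) := by
  haveI := AlgStLib.isFibGrpd_overCat T
  obtain ⟨R, a', br, -⟩ := mk_eq_mk_iff.1 hq
  let Tr := 𝒴.p.obj R.obj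
  let o0 : Over T := Over.mk (Over.homMk (T.left.fromSpecResidueField t0) rfl :
    Over.mk (T.left.fromSpecResidueField t0 ≫ T.hom) ⟶ T)
  let a : R.obj ⟶ y.obj o0 := a'
  let ca : Tr ⟶ o0.left := 𝒴.p.map a ≫ eqToHom (y.w_obj _)
  have hca : 𝒴.p.IsHomLift ca a := IsHomLift.of_fac' 𝒴.p _ _ rfl (y.w_obj _) (by simp [ca])
  let mr : (Over.mk (ca ≫ o0.hom) : Over T) ⟶ o0 := Over.homMk ca rfl
  have hmr : 𝒴.p.IsHomLift ca (y.map mr) := FibLib.lift_map y mr
  obtain ⟨e, he, -⟩ := exists_fac (g := 𝟙 Tr) a hca (y.map mr) (lift_congr (Category.id_comp ca).symm hmr)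
  let z : 𝒴.p.Fiber (𝒴.p.obj η) := Fiber.mk (p := 𝒴.p) (a := η) rfl
  let Er : Elt y z Tr := ⟨𝒴.p.map (br ≫ b), Fiber.mk (p := (overCat T).p) (a := Over.mk (ca ≫ o0.hom)) rfl, e ≫ br ≫ b,
    lift_congr (Category.id_comp _) (comp_lift he (IsHomLift.map 𝒴.p (br ≫ b)))⟩
  obtain ⟨K, aK, hK, hKfl, -, ⟨C⟩⟩ := exists_classifier hy z
  obtain ⟨Uk, bk, hbk, hbks⟩ := hK.atlas
  obtain ⟨c, hc⟩ := (yon S).map_surjective (bk ≫ aK)
  haveI hcs : Flat c.left := (AlgSpLib.locP_yon_map_iff (P := @Flat) c).1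
    (hc ▸ (good_locP @Flat : Good (LocP @Flat : MorphismProperty (Sp S))).comp (IsAlgSpace.yon_obj _) hK
      (IsAlgSpace.yon_obj _) _ _ (AlgSpLib.locP_mono (fun _ _ f (hf : Etale f) => (inferInstance : Flat f))
        (AlgSpLib.locP_of_repWith hbk)) hKfl)
  obtain ⟨Eb, hEb⟩ := C.exists_elt bk
  have hbase : Eb.base = c := (yon S).map_injective (by rw [← C.cls_comp Eb, hEb, hc])
  obtain ⟨W', pW, qW, sq⟩ := AlgSpLib.exists_isPullback_yon bk (C.cls Er) hbk.1
  haveI : Surjective qW.left := hbks.2 _ _ _ sq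
  obtain ⟨E', hE'⟩ := exists_pullback_elt qW Er
  have hEb' : EHom pW E' Eb := C.ehom_of_comp (by rw [C.cls_map hE', hEb, sq.w])
  have hne : Nonempty ↥Tr.left := by
    have e1 : Tr.left = Spec (CommRingCat.of R.K) := congrArg Comma.left R.lies
    rw [e1]; infer_instance
  obtain ⟨ρ⟩ := hne
  obtain ⟨ρ', hρ'⟩ := Surjective.surj (f := qW.left) ρ
  obtain ⟨O, hO, hvO, -⟩ := exists_isAffineOpen_mem_and_subset (x := pW.left ρ') (U := ⊤) trivial
  let O' : Over S := Over.mk (O.ι ≫ Uk.hom)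
  let kO : O' ⟶ Uk := Over.homMk O.ι rfl
  let o : Over T := Over.mk (kO ≫ eqToHom Eb.obj.2.symm ≫ Eb.obj.1.hom)
  let kk : o ⟶ Eb.obj.1 := Over.homMk (kO ≫ eqToHom Eb.obj.2.symm) (Category.assoc _ _ _)
  have hkk : 𝒴.p.IsHomLift (kO ≫ eqToHom Eb.obj.2.symm) (y.map kk) := FibLib.lift_map y kk
  have hmap : 𝒴.p.IsHomLift (eqToHom Eb.obj.2 ≫ c) (Eb.map : y.obj Eb.obj.1 ⟶ η) := by
    rw [← hbase]
    haveI : 𝒴.p.IsHomLift Eb.base (Eb.map : y.obj Eb.obj.1 ⟶ η) := Eb.lift
    infer_instance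
  let m : y.obj o ⟶ η := y.map kk ≫ Eb.map
  have hm : 𝒴.p.IsHomLift (kO ≫ c) m := lift_congr (by simp) (comp_lift hkk hmap)
  have hflat : Flat (kO ≫ c).left :=
    MorphismProperty.comp_mem _ _ _ (inferInstance : Flat O.ι) hcs
  have haff : IsAffine (sch 𝒴 (y.obj o)) := by
    rw [sch_obj_eq]; exact hO
  refine ⟨o, m, haff, prop_of_lift (P := @Flat) (kO ≫ c) m hm hflat, ?_⟩
  have ht : t ∈ Set.range (kO ≫ c).left := by
    refine ⟨⟨pW.left ρ', hvO⟩, ?_⟩
    show c.left (pW.left ρ') = t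
    have h3 : c.left (pW.left ρ') = (𝒴.p.map (br ≫ b)).left (qW.left ρ') := by
      have h4 : pW ≫ c = qW ≫ 𝒴.p.map (br ≫ b) := by rw [← hbase, ← hE'.base_eq, ← hEb'.base_eq]
      rw [← Scheme.Hom.comp_apply, ← Scheme.Hom.comp_apply, ← Over.comp_left, ← Over.comp_left, h4]
    rw [h3, Functor.map_comp, Over.comp_left, Scheme.Hom.comp_apply]
    exact hb _
  exact range_eq_of_lift (𝒵 := 𝒴) (kO ≫ c) m hm rfl t (by rw [eqToHom_refl, Category.comp_id]; exact ht)

/-- Generation on flat affine charts covering the base is relative generation. -/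
theorem isRelGenFam_of_charts (hfqc : AlgSt.IsQuasiCompactMor Scheme.fppfPrecoverage f)
    (hfqs : AlgSt.IsQuasiSeparatedMor f) {ι : Type u} (E : ι → QCoh 𝒳) (hE : ∀ i, (E i).obj.IsFinPres)
    {A : Type u} (T : A → Over S) (hT : ∀ a, IsAffine (T a).left) (y : ∀ a, overCat (T a) ⥤ᵇ 𝒴)
    (hfl : ∀ a, AlgSt.RepByAlgSpWith (LocP @Flat) (y a))
    (hsurj : ∀ p : AlgSt.Points 𝒴, ∃ (a : A) (t : (T a).left), AlgSt.Points.ofChart (y a) t = p)
    (hgen : ∀ a, IsGenFam (fun i => (comapQ (fpFst f (y a))).obj (E i))) :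
    IsRelGenFam f E := by
  intro η hη
  haveI := hη
  obtain ⟨w0, r, p, q, hw0, hr, hW⟩ := exists_chartData hfqc hfqs η
  haveI := hw0
  haveI := hr
  have key : ∀ t : sch 𝒴 η, ∃ (a : A) (o : (overCat (T a)).obj) (m : (y a).obj o ⟶ η),
      IsAffine (sch 𝒴 ((y a).obj o)) ∧ Flat (bmap 𝒴 m) ∧ t ∈ Set.range (bmap 𝒴 m) := fun t => by
    obtain ⟨P, b, hb⟩ := exists_point_at η t
    obtain ⟨a, t0, ht0⟩ := hsurj (AlgSt.Points.mk P)
    obtain ⟨o, m, h⟩ := exists_chart_near (hfl a) η t P b hb t0 ht0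
    exact ⟨a, o, m, h⟩
  choose a o m haff hflat hmem using key
  refine isGenFam_of_cover hW E (fun i => hE i w0.left) (fun t => (y (a t)).obj (o t)) haff m hflat
    (fun t => ⟨t, hmem t⟩) fun t => ?_
  haveI := haff t
  haveI : IsAffine (sch 𝒴 ((y (a t)).obj (topObj (T (a t))))) := by
    rw [sch_obj_eq]; exact hT (a t)
  exact isGenFam_of_affine ((y (a t)).map (toTop (o t))) E (isGenFam_of_chartPush E (hgen (a t)))

end GenDescLib
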