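import Groth.Prelude.Def_StMod6
import Groth.Agent.QCohDescLib.Hom

/-!
# Pulling morphisms between cartesian modules along a morphism of objects
-/

set_option autoImplicit false
set_option linter.style.haveILetI false
set_option backward.isDefEq.respectTransparency false
set_option backward.isDefEq.respectTransparency.types false

universe w v u

open CategoryTheory CategoryTheory.Limits AlgebraicGeometry Opposite StMod
open KFlatLib (pb puSec puSecLE)

noncomputable section

namespace GenDescLib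

variable {S : Scheme.{u}} {W : BasedCategory.{v, w} (Over S)}

/-- The adjoint of a comparison map. -/
def adj (M : Mod W) {y' y : W.obj} (k : y' ⟶ y) : pb (bmap W k) (M.obj y) ⟶ M.obj y' :=
  ((Scheme.Modules.pullbackPushforwardAdjunction (bmap W k)).homEquiv _ _).symm (M.map k rfl)

theorem counit_puSec {Y Z : Scheme.{u}} (q : Z ⟶ Y) {K : Y.Modules} {N : Z.Modules}
    (ι : K ⟶ (Scheme.Modules.pushforward q).obj N) {U : Y.Opens} (k : Γ(K, U)) :
    (((Scheme.Modules.pullbackPushforwardAdjunction q).homEquiv _ _).symm ι).app (q ⁻¹ᵁ U) (puSec q k) =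
      ι.app U k :=
  congr($(congrArg (fun φ => Scheme.Modules.Hom.app φ U)
    (((Scheme.Modules.pullbackPushforwardAdjunction q).homEquiv _ _).apply_symm_apply ι)) k)

theorem adj_puSec (M : Mod W) {y' y : W.obj} (k : y' ⟶ y) {U : (sch W y).Opens} (m : Γ(M.obj y, U)) :
    (adj M k).app (bmap W k ⁻¹ᵁ U) (puSec (bmap W k) m) = (M.map k rfl).app U m :=
  counit_puSec _ _ _

/-- The comparison of adjoints along a composite. -/
theorem adj_comp (M : Mod W) {y'' y' y : W.obj} (ψ : y'' ⟶ y') (φ : y' ⟶ y)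
    (e : bmap W ψ ≫ bmap W φ = bmap W (ψ ≫ φ)) :
    (Scheme.Modules.pullback (bmap W ψ)).map (adj M φ) ≫ adj M ψ =
      (QCohDescLib.compIso (M.obj y) (bmap W ψ) e).hom ≫ adj M (ψ ≫ φ) := by
  refine ((Scheme.Modules.pullbackPushforwardAdjunction (bmap W ψ)).homEquiv _ _).injective ?_
  refine QCohDescLib.hom_ext_puSec (M.obj y) fun U m => ?_
  show (adj M ψ).app (bmap W ψ ⁻¹ᵁ (bmap W φ ⁻¹ᵁ U))
      (((Scheme.Modules.pullback (bmap W ψ)).map (adj M φ)).app (bmap W ψ ⁻¹ᵁ (bmap W φ ⁻¹ᵁ U))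
        (puSec (bmap W ψ) (puSec (bmap W φ) m))) =
    (adj M (ψ ≫ φ)).app (bmap W ψ ⁻¹ᵁ (bmap W φ ⁻¹ᵁ U))
      ((QCohDescLib.compIso (M.obj y) (bmap W ψ) e).hom.app (bmap W ψ ⁻¹ᵁ (bmap W φ ⁻¹ᵁ U))
        (puSec (bmap W ψ) (puSec (bmap W φ) m)))
  rw [KFlatLib.puSec_natural, adj_puSec, adj_puSec,
    QCohDescLib.compIso_puSec (M.obj y) (bmap W ψ) e m (le_of_eq (by rw [← e]; rfl)),
    KFlatLib.puSecLE_apply, QCohLib.app_map, adj_puSec]
  have h := congr($(M.map_comp_app ψ φ (h := bmap W ψ) (g := bmap W φ) rfl rfl U) m)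
  refine h.symm.trans ?_
  suffices H : ∀ {q : sch W y'' ⟶ sch W y} (hq : bmap W (ψ ≫ φ) = q) (e : bmap W ψ ≫ bmap W φ = q)
      (le : bmap W ψ ⁻¹ᵁ (bmap W φ ⁻¹ᵁ U) ≤ q ⁻¹ᵁ U),
      (M.map (ψ ≫ φ) (g := bmap W ψ ≫ bmap W φ) (bmap_comp ψ φ)).app U m =
        (M.obj y'').presheaf.map (homOfLE le).op ((M.map (ψ ≫ φ) hq).app U m) from H rfl e _
  rintro q hq rfl le
  exact congr($((M.obj y'').presheaf.map_id _) _).symm

variable (E M : Mod W) (hE : E.IsCartesian)

/-- The morphism pulled back along `k`. -/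
def pull {y' y : W.obj} (k : y' ⟶ y) (h : E.obj y ⟶ M.obj y) : E.obj y' ⟶ M.obj y' :=
  haveI : IsIso (adj E k) := hE k rfl
  inv (adj E k) ≫ (Scheme.Modules.pullback (bmap W k)).map h ≫ adj M k

theorem pull_spec {y' y : W.obj} (k : y' ⟶ y) (h : E.obj y ⟶ M.obj y) :
    adj E k ≫ pull E M hE k h = (Scheme.Modules.pullback (bmap W k)).map h ≫ adj M k := by
  haveI : IsIso (adj E k) := hE k rfl
  exact IsIso.hom_inv_id_assoc (adj E k) _

theorem eq_pull_iff {y' y : W.obj} (k : y' ⟶ y) (h : E.obj y ⟶ M.obj y) (h' : E.obj y' ⟶ M.obj y') :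
    h' = pull E M hE k h ↔ E.map k rfl ≫ (Scheme.Modules.pushforward (bmap W k)).map h' = h ≫ M.map k rfl := by
  haveI : IsIso (adj E k) := hE k rfl
  rw [← cancel_epi (adj E k), pull_spec]
  let A := Scheme.Modules.pullbackPushforwardAdjunction (bmap W k)
  constructor
  · intro e
    have := congrArg (A.homEquiv _ _) e
    rw [A.homEquiv_naturality_right, A.homEquiv_naturality_left] at this
    simpa [adj, A] using this
  · intro e
    apply (A.homEquiv _ _).injective
    rw [A.homEquiv_naturality_right, A.homEquiv_naturality_left]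
    simpa [adj, A] using e

theorem pull_app {y' y : W.obj} (k : y' ⟶ y) (h : E.obj y ⟶ M.obj y) (e : Γ(E.obj y, ⊤)) :
    (pull E M hE k h).app ⊤ (E.mapTop k e) = M.mapTop k (h.app ⊤ e) := by
  have := congrArg (fun φ => Scheme.Modules.Hom.app φ ⊤) ((eq_pull_iff E M hE k h _).1 rfl)
  exact congr($this e)

theorem pull_comm {y' y : W.obj} (k : y' ⟶ y) (h : E.obj y ⟶ M.obj y) {g : sch W y' ⟶ sch W y}
    (hg : bmap W k = g) :
    E.map k hg ≫ (Scheme.Modules.pushforward g).map (pull E M hE k h) = h ≫ M.map k hg := by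
  subst hg
  exact (eq_pull_iff E M hE k h _).1 rfl

theorem app_eq_pull {y' y : W.obj} (k : y' ⟶ y) (u : E ⟶ M) : u.app y' = pull E M hE k (u.app y) :=
  (eq_pull_iff E M hE k _ _).2 (u.comm k rfl)

theorem pull_zero {y' y : W.obj} (k : y' ⟶ y) : pull E M hE k 0 = 0 :=
  ((eq_pull_iff E M hE k _ _).2 (by simp)).symm

theorem pull_comp {y'' y' y : W.obj} (ψ : y'' ⟶ y') (φ : y' ⟶ y) (h : E.obj y ⟶ M.obj y) :
    pull E M hE (ψ ≫ φ) h = pull E M hE ψ (pull E M hE φ h) := by
  symm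
  rw [eq_pull_iff]
  have e : bmap W ψ ≫ bmap W φ = bmap W (ψ ≫ φ) := (bmap_comp ψ φ).symm
  suffices H : ∀ {q : sch W y'' ⟶ sch W y} (hq : bmap W (ψ ≫ φ) = q), q = bmap W ψ ≫ bmap W φ →
      E.map (ψ ≫ φ) hq ≫ (Scheme.Modules.pushforward q).map (pull E M hE ψ (pull E M hE φ h)) =
        h ≫ M.map (ψ ≫ φ) hq from H rfl e.symm
  rintro q hq rfl
  rw [E.map_comp ψ φ rfl rfl, M.map_comp ψ φ rfl rfl, Category.assoc, Category.assoc,
    ← (Scheme.Modules.pushforwardComp (bmap W ψ) (bmap W φ)).hom.naturality]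
  rw [← Category.assoc ((Scheme.Modules.pushforward (bmap W φ)).map _)]
  rw [Functor.comp_map, ← Functor.map_comp, pull_comm E M hE ψ, Functor.map_comp, ← Category.assoc, ← Category.assoc,
    pull_comm E M hE φ]
  simp only [Category.assoc]

theorem pull_id {y : W.obj} (h : E.obj y ⟶ M.obj y) : pull E M hE (𝟙 y) h = h := by
  symm
  rw [eq_pull_iff]
  suffices H : ∀ {q : sch W y ⟶ sch W y} (hq : bmap W (𝟙 y) = q), q = 𝟙 _ →
      E.map (𝟙 y) hq ≫ (Scheme.Modules.pushforward q).map h = h ≫ M.map (𝟙 y) hq from H rfl (bmap_id y)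
  rintro q hq rfl
  rw [← cancel_mono ((Scheme.Modules.pushforwardId (sch W y)).hom.app (M.obj y)), Category.assoc, Category.assoc]
  erw [(Scheme.Modules.pushforwardId (sch W y)).hom.naturality h, Mod.map_id, Mod.map_id_assoc]
  simp

variable {E M}

/-- Pulling along a jointly surjective flat family is faithful. -/
theorem eq_of_pull {κ : Type u} {y : W.obj} {y' : κ → W.obj} (k : ∀ i, y' i ⟶ y)
    (hfl : ∀ i, Flat (bmap W (k i))) (hsurj : ∀ s : sch W y, ∃ i, s ∈ Set.range (bmap W (k i)))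
    (hM : M.IsCartesian) {h₁ h₂ : E.obj y ⟶ M.obj y}
    (e : ∀ i, pull E M hE (k i) h₁ = pull E M hE (k i) h₂) : h₁ = h₂ := by
  haveI := hfl
  refine QCohDescLib.eq_of_pullback_map_eq (fun i => bmap W (k i)) hsurj h₁ h₂ fun i => ?_
  haveI : IsIso (adj M (k i)) := hM (k i) rfl
  rw [← cancel_mono (adj M (k i)), ← pull_spec E M hE, ← pull_spec E M hE, e i]

/-- Pulling along a flat surjective morphism is faithful. -/
theorem eq_of_pull₁ {y' y : W.obj} (k : y' ⟶ y) (hfl : Flat (bmap W k)) (hs : Surjective (bmap W k))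
    (hM : M.IsCartesian) {h₁ h₂ : E.obj y ⟶ M.obj y}
    (e : pull E M hE k h₁ = pull E M hE k h₂) : h₁ = h₂ :=
  eq_of_pull hE (κ := PUnit) (fun _ => k) (fun _ => hfl) (fun s => ⟨⟨⟩, hs.surj s⟩) hM fun _ => e

/-- Morphisms descend along fppf morphisms. -/
theorem exists_descend {y' y : W.obj} (c : y' ⟶ y) [Flat (bmap W c)] [Surjective (bmap W c)]
    [LocallyOfFinitePresentation (bmap W c)] (hM : M.IsCartesian) (hMq : Coh.IsQCoh (M.obj y))
    (hlift : ∀ (Y : Scheme.{u}) (a b : Y ⟶ sch W y'), a ≫ bmap W c = b ≫ bmap W c →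
      ∃ (y'' : W.obj) (e : sch W y'' = Y) (ka kb : y'' ⟶ y'),
        ka ≫ c = kb ≫ c ∧ bmap W ka = eqToHom e ≫ a ∧ bmap W kb = eqToHom e ≫ b)
    (h' : E.obj y' ⟶ M.obj y')
    (hh : ∀ (y'' : W.obj) (ka kb : y'' ⟶ y'), ka ≫ c = kb ≫ c → pull E M hE ka h' = pull E M hE kb h') :
    ∃ h : E.obj y ⟶ M.obj y, pull E M hE c h = h' := by
  haveI : IsIso (adj M c) := hM c rfl
  haveI : IsIso (adj E c) := hE c rfl
  haveI := hMq
  have hf : Presieve.ofArrows (fun _ : PUnit.{u + 1} => sch W y') (fun _ => bmap W c) ∈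
      Scheme.fpqcPrecoverage (sch W y) := by
    rw [Presieve.ofArrows_pUnit]
    exact Scheme.fppfPrecoverage_le_fpqcPrecoverage _ (Scheme.Hom.singleton_mem_fppfPrecoverage (bmap W c))
  obtain ⟨h, hh'⟩ := QCohDescLib.exists_hom_descend (fun _ : PUnit.{u + 1} => bmap W c) hf (E.obj y) (M.obj y)
    (fun _ => adj E c ≫ h' ≫ inv (adj M c)) fun _ _ Y a b q ea eb => by
      obtain ⟨y'', rfl, ka, kb, hk, hka, hkb⟩ := hlift Y a b (ea.trans eb.symm)
      obtain rfl : bmap W ka = a := by simpa using hka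
      obtain rfl : bmap W kb = b := by simpa using hkb
      obtain rfl : bmap W (ka ≫ c) = q := (bmap_comp ka c).trans ea
      haveI : IsIso (adj M (ka ≫ c)) := hM _ rfl
      haveI : IsIso (adj E ka) := hE _ rfl
      haveI : IsIso (adj E kb) := hE _ rfl
      have key : ∀ (k : y'' ⟶ y') (hk' : k ≫ c = ka ≫ c) (e : bmap W k ≫ bmap W c = bmap W (ka ≫ c)),
          (Scheme.Modules.pullback (bmap W k)).map (adj E c ≫ h' ≫ inv (adj M c)) ≫
              (QCohDescLib.compIso (M.obj y) (bmap W k) e).hom =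
            (QCohDescLib.compIso (E.obj y) (bmap W k) e).hom ≫ adj E (ka ≫ c) ≫ pull E M hE k h' ≫
              inv (adj M (ka ≫ c)) := by
        intro k hk' e
        have gen : ∀ (N : Mod W),
            (Scheme.Modules.pullback (bmap W k)).map (adj N c) ≫ adj N k =
              (QCohDescLib.compIso (N.obj y) (bmap W k) e).hom ≫ adj N (ka ≫ c) := by
          revert e
          rw [← hk']
          intro e N
          exact adj_comp N k c e
        rw [← cancel_mono (adj M (ka ≫ c))]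
        simp only [Category.assoc, IsIso.inv_hom_id, Category.comp_id]
        rw [← gen M, ← reassoc_of% (gen E), pull_spec]
        simp only [← Functor.map_comp_assoc, Category.assoc, IsIso.inv_hom_id, Category.comp_id]
      rw [← cancel_mono (QCohDescLib.compIso (M.obj y) (bmap W kb) eb).hom, Category.assoc, Category.assoc,
        Category.assoc, Category.assoc, Iso.inv_hom_id, Category.comp_id, key ka rfl ea, key kb hk.symm eb,
        Iso.inv_hom_id_assoc, hh y'' ka kb hk]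
  refine ⟨h, ?_⟩
  haveI := hh'
  rw [← cancel_epi (adj E c), pull_spec, hh' PUnit.unit]
  simp

end GenDescLib
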