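import Groth.Prelude.Def_StMod6
import Groth.Agent.IsoNatSepLib.Glue

/-!
# Objects of the category over an object
-/

set_option autoImplicit false
set_option linter.style.haveILetI false
set_option backward.isDefEq.respectTransparency false
set_option backward.isDefEq.respectTransparency.types false

universe u

open CategoryTheory CategoryTheory.Limits AlgebraicGeometry AlgSp FibCat FibLib AlgStLib IsoNatLib IsoNatSepLib Opposite StMod
open CategoryTheory.Functor (Fiber IsPreFibered IsStronglyCartesian)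

noncomputable section

namespace GenDescLib

variable {S : Scheme.{u}} {𝒳 𝒴 : AlgSt.Cat S} [IsFibGrpd 𝒳.p] {f : 𝒳 ⥤ᵇ 𝒴} {η : 𝒴.obj}

/-- Objects over an object restrict along morphisms of schemes. -/
theorem fib_lift (x : (fibCat f η).obj) (Y : Scheme.{u}) (a : Y ⟶ sch (fibCat f η) x) :
    ∃ (z : (fibCat f η).obj) (e : sch (fibCat f η) z = Y) (m : z ⟶ x),
      bmap (fibCat f η) m = eqToHom e ≫ a := by
  let A : Over.mk (a ≫ (𝒳.p.obj x.left).hom) ⟶ 𝒳.p.obj x.left := Over.homMk a rfl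
  obtain ⟨z', m, hm⟩ := IsoNatLib.exists_pullback A (Fiber.mk (p := 𝒳.p) (a := x.left) rfl)
  let m' : z'.1 ⟶ x.left := m
  refine ⟨CostructuredArrow.mk (S := f.toFunctor) (Y := z'.1) (f.map m' ≫ x.hom), congrArg Comma.left z'.2,
    CostructuredArrow.homMk m' rfl, ?_⟩
  have h := @IsHomLift.fac' _ _ _ _ 𝒳.p _ _ _ _ A m hm
  show (𝒳.p.map m').left = _
  rw [show 𝒳.p.map m' = _ from h]
  simp [A, Over.eqToHom_left]

/-- A morphism of schemes factoring the base of a morphism lifts. -/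
theorem fib_fac {x' x z : (fibCat f η).obj} (c : x' ⟶ x) (m : z ⟶ x)
    (b : sch (fibCat f η) z ⟶ sch (fibCat f η) x') (hb : b ≫ bmap (fibCat f η) c = bmap (fibCat f η) m) :
    ∃ θ : z ⟶ x', θ ≫ c = m ∧ bmap (fibCat f η) θ = b := by
  have hw : b ≫ (𝒳.p.obj x'.left).hom = (𝒳.p.obj z.left).hom := by
    have h1 : (𝒳.p.map c.left).left ≫ (𝒳.p.obj x.left).hom = (𝒳.p.obj x'.left).hom := Over.w (𝒳.p.map c.left)
    have h2 : (𝒳.p.map m.left).left ≫ (𝒳.p.obj x.left).hom = (𝒳.p.obj z.left).hom := Over.w (𝒳.p.map m.left)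
    rw [← h1, ← h2, ← reassoc_of% (show b ≫ (𝒳.p.map c.left).left = (𝒳.p.map m.left).left from hb)]
  let B : 𝒳.p.obj z.left ⟶ 𝒳.p.obj x'.left := Over.homMk b hw
  have hB : B ≫ 𝒳.p.map c.left = 𝒳.p.map m.left := Over.OverMorphism.ext hb
  obtain ⟨θ, hθ, eθ⟩ := exists_fac (𝒳 := 𝒳) (g := B) c.left (IsHomLift.map 𝒳.p c.left) m.left
    (lift_congr hB.symm (IsHomLift.map 𝒳.p m.left))
  have hp : 𝒳.p.map θ = B := (eq_of_lifts 𝒳.p θ hθ (IsHomLift.map 𝒳.p θ)).symm
  refine ⟨CostructuredArrow.homMk θ ?_, CostructuredArrow.hom_ext _ _ eθ, congrArg (fun t => t.left) hp⟩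
  have w1 : f.map c.left ≫ x.hom = x'.hom := CostructuredArrow.w c
  have w2 : f.map m.left ≫ x.hom = z.hom := CostructuredArrow.w m
  rw [← w1, ← Category.assoc]
  exact (congrArg (· ≫ x.hom) ((f.toFunctor.map_comp θ c.left).symm.trans (congrArg f.map eθ))).trans w2

end GenDescLib
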