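import Groth.Agent.GenDescLib.Stacks
import Groth.Agent.TwDescLib.FinProp

/-!
# Finite local freeness descends along fppf families of stacks
-/

set_option autoImplicit false
set_option linter.style.haveILetI false
set_option backward.isDefEq.respectTransparency false
set_option backward.isDefEq.respectTransparency.types false

universe u

open CategoryTheory CategoryTheory.Limits AlgebraicGeometry AlgSp AlgSpLib FibCat FibLib AlgStLib IsoNatLib IsoNatSepLib Opposite StMod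
open CategoryTheory.Functor (Fiber IsPreFibered IsStronglyCartesian)

noncomputable section

namespace GenDescLib

variable {S : Scheme.{u}} {𝒳 𝒴 : AlgSt.Cat S} [IsFibGrpd 𝒳.p] [IsFibGrpd 𝒴.p] {f : 𝒳 ⥤ᵇ 𝒴}

theorem isFinLocFree_of_fppf_family (E : QCoh 𝒳) {A : Type u} (𝒴' : A → AlgSt.Cat S)
    (h𝒴' : ∀ a, IsFibGrpd (𝒴' a).p) (v : ∀ a, 𝒴' a ⥤ᵇ 𝒴)
    (hfl : ∀ a, AlgSt.LocQ (AlgSp.LocP (@Flat ⊓ @LocallyOfFinitePresentation)) (v a))
    (hsurj : ∀ p : AlgSt.Points 𝒴, ∃ (a : A) (q : AlgSt.Points (𝒴' a)), AlgSt.Points.map (v a) q = p)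
    (hlf : ∀ a, ((comapQ (FibCat.fpFst f (v a))).obj E).obj.IsLocFree ∧
      ((comapQ (FibCat.fpFst f (v a))).obj E).obj.IsFinType) (ξ : 𝒳.obj) :
    FlatMod.IsFinLocFree (E.obj.obj ξ) := by
  have hQ : ∀ {U V : Over S} (g : U ⟶ V), LocP (@Flat ⊓ @LocallyOfFinitePresentation) ((yon S).map g) →
      (@Flat ⊓ @LocallyOfFinitePresentation : MorphismProperty Scheme.{u}) g.left := fun g hg =>
    ⟨(AlgSpLib.locP_yon_map_iff (P := @Flat) g).1 (AlgSpLib.locP_mono inf_le_left hg),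
      (AlgSpLib.locP_yon_map_iff (P := @LocallyOfFinitePresentation) g).1 (AlgSpLib.locP_mono inf_le_right hg)⟩
  let e0 : sch 𝒴 (f.obj ξ) = sch 𝒳 ξ := sch_obj_eq f ξ
  have key : ∀ t : sch 𝒳 ξ, ∃ (Y : Scheme.{u}) (g : Y ⟶ sch 𝒳 ξ), Flat g ∧ LocallyOfFinitePresentation g ∧
      t ∈ Set.range g ∧ FlatMod.IsFinLocFree (KFlatLib.pb g (E.obj.obj ξ)) := by
    intro t
    obtain ⟨P, b, hb⟩ := exists_point_at (f.obj ξ) (eqToHom e0.symm t)
    obtain ⟨a, z, hz⟩ := hsurj (AlgSt.Points.mk P)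
    haveI := h𝒴' a
    obtain ⟨η', m, -, ⟨hm1, hm2⟩, hm3⟩ := exists_lift_near (Q := @Flat ⊓ @LocallyOfFinitePresentation)
      (fun g hg => ⟨inferInstance, inferInstance⟩) hQ (hfl a) (f.obj ξ) _ P b hb z hz
    let c : (𝒴' a).p.obj η' ⟶ 𝒳.p.obj ξ :=
      eqToHom ((v a).w_obj η').symm ≫ 𝒴.p.map m ≫ eqToHom (f.w_obj ξ)
    have hcm : 𝒴.p.IsHomLift c m :=
      IsHomLift.of_fac' 𝒴.p _ _ ((v a).w_obj η') (f.w_obj ξ) (by simp [c])
    obtain ⟨ξ', k, hk⟩ := IsoNatLib.exists_pullback c (Fiber.mk (p := 𝒳.p) (a := ξ) rfl)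
    obtain ⟨θ, hθ, -⟩ := exists_fac (𝒳 := 𝒴) (g := 𝟙 _) m hcm (f.map k) (lift_congr (Category.id_comp c).symm (fun_lift f hk))
    haveI := hθ
    haveI : IsIso θ := isIso_of_isHomLift 𝒴.p (𝟙 ((𝒴' a).p.obj η')) θ
    have hθ1 : 𝒴.p.IsHomLift (𝟙 (𝒳.p.obj ξ'.1)) θ := ξ'.2.symm ▸ hθ
    have hlf' : FlatMod.IsFinLocFree (E.obj.obj ξ'.1) :=
      (TwDescLib.isLocFree_and_isFT_iff _).1 ⟨(hlf a).1 (fpObj ξ'.1 η' (asIso θ) hθ1),
        (hlf a).2 (fpObj ξ'.1 η' (asIso θ) hθ1)⟩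
    let k' : ξ'.1 ⟶ ξ := k
    haveI : IsIso (((Scheme.Modules.pullbackPushforwardAdjunction (bmap 𝒳 k')).homEquiv _ _).symm (E.obj.map k' rfl)) :=
      E.property.1 k' rfl
    have hfl' : FlatMod.IsFinLocFree (KFlatLib.pb (bmap 𝒳 k') (E.obj.obj ξ)) :=
      TwDescLib.descProp_isFinLocFree.of_iso (asIso (((Scheme.Modules.pullbackPushforwardAdjunction
        (bmap 𝒳 k')).homEquiv _ _).symm (E.obj.map k' rfl))).symm hlf'
    have hc : c.left = eqToHom (congrArg Comma.left ((v a).w_obj η').symm) ≫ bmap 𝒴 m ≫ eqToHom e0 := by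
      simp only [c, Over.comp_left, Over.eqToHom_left]
    haveI := hm1; haveI := hm2
    refine ⟨_, bmap 𝒳 k', prop_of_lift (P := @Flat) c k' hk (by rw [hc]; infer_instance),
      prop_of_lift (P := @LocallyOfFinitePresentation) c k' hk (by rw [hc]; infer_instance), ?_, hfl'⟩
    refine range_eq_of_lift (𝒵 := 𝒳) c k' hk rfl t ?_
    rw [eqToHom_refl, Category.comp_id, hc]
    obtain ⟨y, hy⟩ := hm3
    refine ⟨eqToHom (congrArg Comma.left ((v a).w_obj η')) y, ?_⟩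
    simp only [← Scheme.Hom.comp_apply, eqToHom_trans_assoc, eqToHom_refl, Category.id_comp]
    refine (congrArg (fun w => eqToHom e0 w) hy).trans ?_
    refine (Scheme.Hom.comp_apply _ _ _).symm.trans ?_
    rw [eqToHom_trans, eqToHom_refl]
    rfl
  choose Y g hg1 hg2 ht hY using key
  refine TwDescLib.descProp_isFinLocFree.of_family (f := g)
    (Scheme.fppfPrecoverage_le_fpqcPrecoverage _ ?_) _ (E.property.2 ξ) hY
  exact (Scheme.ofArrows_mem_precoverage_iff _).2 ⟨fun t => ⟨t, ht t⟩, fun t => ⟨hg1 t, hg2 t⟩⟩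

theorem isFP_of_isFinLocFree {X : Scheme.{u}} (M : X.Modules) (h : FlatMod.IsFinLocFree M) : CohB1.IsFP M :=
  (Groth.Agent.S9805.result X M (FinLFAnn.isQCoh_of_isFinLocFree h)).2 h |>.2

end GenDescLib
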