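import Groth.Agent.GenDescLib.Kill
import Groth.Agent.GenDescLib.Main
import Groth.Agent.RpushLib.BCMap

/-!
# Direct image along an affine change of the object on the base
-/

set_option autoImplicit false
set_option linter.style.haveILetI false
set_option backward.isDefEq.respectTransparency false
set_option backward.isDefEq.respectTransparency.types false
set_option maxHeartbeats 800000

universe w v u

open CategoryTheory CategoryTheory.Limits AlgebraicGeometry AlgSp FibCat FibLib AlgStLib IsoNatLib IsoNatSepLib Opposite StMod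
open CategoryTheory.Functor (Fiber IsPreFibered IsStronglyCartesian)

noncomputable section

namespace GenDescLib

section General

variable {S : Scheme.{u}} {W : BasedCategory.{v, w} (Over S)}

theorem map_app_of_eq_id (M : Mod W) {z : W.obj} (φ : z ⟶ z) (h : φ = 𝟙 z) (U : (sch W z).Opens)
    (e : bmap W φ ⁻¹ᵁ U = U) (m : Γ(M.obj z, U)) :
    (M.map φ rfl).app U m = (M.obj z).presheaf.map (eqToHom e).op m := by
  subst h
  suffices H : ∀ {g : sch W z ⟶ sch W z} (hg : bmap W (𝟙 z) = g), g = 𝟙 _ → ∀ e' : g ⁻¹ᵁ U = U,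
      (M.map (𝟙 z) hg).app U m = (M.obj z).presheaf.map (eqToHom e').op m from H rfl (bmap_id z) e
  rintro g hg rfl e'
  rw [Mod.map_id_app]
  exact (congr($((M.obj z).presheaf.map_id _) m)).symm

theorem map_app_of_eq_comp (M : Mod W) {z'' z' z : W.obj} (φ : z'' ⟶ z) (ψ : z'' ⟶ z') (χ : z' ⟶ z)
    (h : φ = ψ ≫ χ) (U : (sch W z).Opens) (e : bmap W φ ⁻¹ᵁ U = bmap W ψ ⁻¹ᵁ (bmap W χ ⁻¹ᵁ U))
    (m : Γ(M.obj z, U)) :
    (M.map φ rfl).app U m =
      (M.obj z'').presheaf.map (eqToHom e).op ((M.map ψ rfl).app _ ((M.map χ rfl).app U m)) := by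
  subst h
  suffices H : ∀ {g : sch W z'' ⟶ sch W z} (hg : bmap W (ψ ≫ χ) = g), g = bmap W ψ ≫ bmap W χ →
      ∀ e' : g ⁻¹ᵁ U = bmap W ψ ⁻¹ᵁ (bmap W χ ⁻¹ᵁ U), (M.map (ψ ≫ χ) hg).app U m =
        (M.obj z'').presheaf.map (eqToHom e').op ((M.map ψ rfl).app _ ((M.map χ rfl).app U m))
    from H rfl (bmap_comp ψ χ) e
  rintro g hg rfl e'
  exact (congr($(M.map_comp_app ψ χ (h := bmap W ψ) (g := bmap W χ) rfl rfl U) m)).trans
    (congr($((M.obj z'').presheaf.map_id _) _)).symm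

/-- The comparison of direct images along a commutative square. -/
def sqIso {X X' Y Y' : Scheme.{u}} {f : X ⟶ Y} {g : Y' ⟶ Y} {g' : X' ⟶ X} {f' : X' ⟶ Y'} (w : g' ≫ f = f' ≫ g) :
    Scheme.Modules.pushforward g' ⋙ Scheme.Modules.pushforward f ≅
      Scheme.Modules.pushforward f' ⋙ Scheme.Modules.pushforward g :=
  Scheme.Modules.pushforwardComp g' f ≪≫ Scheme.Modules.pushforwardCongr w ≪≫
    (Scheme.Modules.pushforwardComp f' g).symm

theorem sqIso_app {X X' Y Y' : Scheme.{u}} {f : X ⟶ Y} {g : Y' ⟶ Y} {g' : X' ⟶ X} {f' : X' ⟶ Y'}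
    (w : g' ≫ f = f' ≫ g) (P : X'.Modules) (U : Y.Opens)
    (e : f' ⁻¹ᵁ (g ⁻¹ᵁ U) = g' ⁻¹ᵁ (f ⁻¹ᵁ U)) (m : Γ(P, g' ⁻¹ᵁ (f ⁻¹ᵁ U))) :
    ((sqIso w).hom.app P).app U m = P.presheaf.map (eqToHom e).op m := by
  simp only [sqIso, Iso.trans_hom, NatTrans.comp_app, Scheme.Modules.Hom.comp_app]
  simp only [Iso.symm_hom, Scheme.Modules.pushforwardComp_hom_app_app,
    Scheme.Modules.pushforwardComp_inv_app_app, Scheme.Modules.pushforwardCongr_hom_app_app]
  simp only [Category.id_comp, Category.comp_id]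
  rfl

theorem eq_id_of_app {X' X : Scheme.{u}} (π : X' ⟶ X) (P : X'.Modules)
    (p : (Scheme.Modules.pushforward π).obj P ⟶ (Scheme.Modules.pushforward (𝟙 X)).obj ((Scheme.Modules.pushforward π).obj P))
    (h : ∀ (U : X.Opens) (t : Γ(P, π ⁻¹ᵁ U)), p.app U t = t) :
    p ≫ (Scheme.Modules.pushforwardId X).hom.app ((Scheme.Modules.pushforward π).obj P) = 𝟙 _ := by
  apply Scheme.Modules.hom_ext
  intro U
  refine ConcreteCategory.hom_ext _ _ fun t => ?_
  exact h U t

theorem eq_comp_of_app {X'' X' X Y'' Y' Y : Scheme.{u}} {π'' : Y'' ⟶ X''} {π' : Y' ⟶ X'} {π : Y ⟶ X}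
    {P'' : Y''.Modules} {P' : Y'.Modules} {P : Y.Modules} {h : X'' ⟶ X'} {g : X' ⟶ X}
    (a : (Scheme.Modules.pushforward π).obj P ⟶ (Scheme.Modules.pushforward (h ≫ g)).obj ((Scheme.Modules.pushforward π'').obj P''))
    (b : (Scheme.Modules.pushforward π).obj P ⟶ (Scheme.Modules.pushforward g).obj ((Scheme.Modules.pushforward π').obj P'))
    (c : (Scheme.Modules.pushforward π').obj P' ⟶ (Scheme.Modules.pushforward h).obj ((Scheme.Modules.pushforward π'').obj P''))
    (H : ∀ (U : X.Opens) (t : Γ(P, π ⁻¹ᵁ U)), a.app U t = c.app (g ⁻¹ᵁ U) (b.app U t)) :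
    a = b ≫ (Scheme.Modules.pushforward g).map c ≫
      (Scheme.Modules.pushforwardComp h g).hom.app ((Scheme.Modules.pushforward π'').obj P'') := by
  apply Scheme.Modules.hom_ext
  intro U
  refine ConcreteCategory.hom_ext _ _ fun t => ?_
  exact H U t

theorem map_sq (E : Mod W) {z' z x' x : W.obj} (k' : z' ⟶ x') (k : z ⟶ x) (c : z' ⟶ z) (φ : x' ⟶ x)
    (hc : c ≫ k = k' ≫ φ) (w : bmap W c ≫ bmap W k = bmap W k' ≫ bmap W φ)
    {N' : (sch W z').Modules} {N : (sch W z).Modules} (μ : N ⟶ (Scheme.Modules.pushforward (bmap W c)).obj N')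
    (h' : E.obj z' ⟶ N') (h : E.obj z ⟶ N)
    (hμ : E.map c rfl ≫ (Scheme.Modules.pushforward (bmap W c)).map h' = h ≫ μ) :
    E.map φ rfl ≫ (Scheme.Modules.pushforward (bmap W φ)).map
        (E.map k' rfl ≫ (Scheme.Modules.pushforward (bmap W k')).map h') =
      (E.map k rfl ≫ (Scheme.Modules.pushforward (bmap W k)).map h) ≫
        (Scheme.Modules.pushforward (bmap W k)).map μ ≫ (sqIso w).hom.app N' := by
  apply Scheme.Modules.hom_ext
  intro U
  refine ConcreteCategory.hom_ext _ _ fun t => ?_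
  have hk : bmap W k' ⁻¹ᵁ (bmap W φ ⁻¹ᵁ U) = bmap W c ⁻¹ᵁ (bmap W k ⁻¹ᵁ U) := by
    rw [← Scheme.Hom.comp_preimage, ← Scheme.Hom.comp_preimage, w]
  have e0 : bmap W (k' ≫ φ) ⁻¹ᵁ U = bmap W k' ⁻¹ᵁ (bmap W φ ⁻¹ᵁ U) := by rw [bmap_comp]; rfl
  have c1 := map_app_of_eq_comp E (k' ≫ φ) k' φ rfl U e0 t
  have c2 := map_app_of_eq_comp E (k' ≫ φ) c k hc.symm U (e0.trans hk) t
  have hT : (E.map k' rfl).app _ ((E.map φ rfl).app U t) =
      (E.obj z').presheaf.map (eqToHom hk).op ((E.map c rfl).app _ ((E.map k rfl).app U t)) := by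
    have hb := congrArg ((E.obj _).presheaf.map (eqToHom e0.symm).op) (c1.symm.trans c2)
    rw [QCohLib.map_map', QCohLib.map_map'] at hb
    refine Eq.trans ?_ (hb.trans ?_)
    · refine Eq.trans ?_ (congrArg (fun g => (E.obj z').presheaf.map g _) (by simp : 𝟙 _ = (eqToHom (_ : _ = _) ≫ eqToHom e0).op))
      exact (congr($((E.obj z').presheaf.map_id _) _)).symm
    · rfl
  have h3 : h'.app _ ((E.map c rfl).app _ ((E.map k rfl).app U t)) = μ.app _ (h.app _ ((E.map k rfl).app U t)) :=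
    congr($(congrArg (fun φ => Scheme.Modules.Hom.app φ (bmap W k ⁻¹ᵁ U)) hμ) ((E.map k rfl).app U t))
  show h'.app _ ((E.map k' rfl).app (bmap W φ ⁻¹ᵁ U) ((E.map φ rfl).app U t)) =
    ((sqIso w).hom.app N').app U (μ.app _ (h.app _ ((E.map k rfl).app U t)))
  rw [hT]
  refine Eq.trans ?_ (sqIso_app w N' U hk _).symm
  rw [← h3]
  exact QCohLib.app_map h' _ _

end General

variable {S : Scheme.{u}} {𝒳 𝒴 : AlgSt.Cat S} [IsFibGrpd 𝒳.p] [IsFibGrpd 𝒴.p] {f : 𝒳 ⥤ᵇ 𝒴}
  {η' η : 𝒴.obj} (m : η' ⟶ η)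

theorem exists_bc (x : (fibCat f η).obj) :
    ∃ (z : (fibCat f η').obj) (k : (fibMap f m).obj z ⟶ x),
      IsPullback (bmap (fibCat f η) k) (fibBase z) (fibBase x) (bmap 𝒴 m) := by
  obtain ⟨z, e, k, hk, hb⟩ := exists_over m x _ (pullback.fst (fibBase x) (bmap 𝒴 m))
    (pullback.snd (fibBase x) (bmap 𝒴 m)) pullback.condition
  exact ⟨z, k, IsPullback.of_iso_pullback
    ⟨by rw [hk, hb, Category.assoc, Category.assoc, pullback.condition]⟩ (eqToIso e) hk.symm hb.symm⟩

/-- The base change of an object. -/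
def bcObj (x : (fibCat f η).obj) : (fibCat f η').obj := (exists_bc m x).choose

/-- The projection from the base change of an object. -/
def bcHom (x : (fibCat f η).obj) : (fibMap f m).obj (bcObj m x) ⟶ x := (exists_bc m x).choose_spec.choose

/-- The morphism of schemes under the projection. -/
abbrev bcπ (x : (fibCat f η).obj) : sch (fibCat f η') (bcObj m x) ⟶ sch (fibCat f η) x :=
  bmap (fibCat f η) (bcHom m x)

theorem bc_sq (x : (fibCat f η).obj) :
    IsPullback (bcπ m x) (fibBase (bcObj m x)) (fibBase x) (bmap 𝒴 m) :=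
  (exists_bc m x).choose_spec.choose_spec

theorem exists_bc_lift {z : (fibCat f η').obj} {x : (fibCat f η).obj} (a : (fibMap f m).obj z ⟶ x) :
    ∃ σ : z ⟶ bcObj m x, (fibMap f m).map σ ≫ bcHom m x = a := by
  let ρ := (bc_sq m x).lift (bmap (fibCat f η) a) (fibBase z) (by rw [bmap_fibBase, fibBase_fibMap])
  obtain ⟨θ, hθ, hθ'⟩ := fib_fac (bcHom m x) a ρ ((bc_sq m x).lift_fst _ _ _)
  have hθb : bmap (fibCat f η) θ ≫ fibBase (bcObj m x) = fibBase z := by
    rw [hθ']; exact (bc_sq m x).lift_snd _ _ _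
  obtain ⟨φ, rfl⟩ := exists_map m θ hθb
  exact ⟨φ, hθ⟩

theorem bc_hom_ext {z : (fibCat f η').obj} {x : (fibCat f η).obj} {g₁ g₂ : z ⟶ bcObj m x}
    (h : (fibMap f m).map g₁ ≫ bcHom m x = (fibMap f m).map g₂ ≫ bcHom m x) : g₁ = g₂ := by
  have hb : bmap (fibCat f η') g₁ = bmap (fibCat f η') g₂ := by
    refine (bc_sq m x).hom_ext ?_ ((bmap_fibBase g₁).trans (bmap_fibBase g₂).symm)
    have h1 := congrArg (bmap (fibCat f η)) h
    rw [bmap_comp, bmap_comp] at h1
    exact h1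
  have hp : 𝒳.p.map g₁.left = 𝒳.p.map g₂.left := Over.OverMorphism.ext hb
  refine CostructuredArrow.hom_ext _ _ ?_
  exact eq_of_fac (IsHomLift.map 𝒳.p (bcHom m x).left) (IsHomLift.map 𝒳.p g₁.left)
    (lift_congr hp.symm (IsHomLift.map 𝒳.p g₂.left)) (congrArg CommaMorphism.left h)

/-- The morphism between base changes. -/
def bcMap {x' x : (fibCat f η).obj} (φ : x' ⟶ x) : bcObj m x' ⟶ bcObj m x :=
  (exists_bc_lift m (bcHom m x' ≫ φ)).choose

theorem bcMap_spec {x' x : (fibCat f η).obj} (φ : x' ⟶ x) :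
    (fibMap f m).map (bcMap m φ) ≫ bcHom m x = bcHom m x' ≫ φ :=
  (exists_bc_lift m (bcHom m x' ≫ φ)).choose_spec

attribute [local irreducible] bcObj bcHom bcMap

theorem bcMap_id (x : (fibCat f η).obj) : bcMap m (𝟙 x) = 𝟙 _ :=
  bc_hom_ext m ((bcMap_spec m (𝟙 x)).trans (by
    rw [(fibMap f m).toFunctor.map_id, Category.comp_id]; erw [Category.id_comp]))

theorem bcMap_comp {x'' x' x : (fibCat f η).obj} (ψ : x'' ⟶ x') (φ : x' ⟶ x) :
    bcMap m (ψ ≫ φ) = bcMap m ψ ≫ bcMap m φ :=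
  bc_hom_ext m ((bcMap_spec m (ψ ≫ φ)).trans (by
    rw [(fibMap f m).toFunctor.map_comp, Category.assoc, bcMap_spec, ← Category.assoc, ← bcMap_spec,
      Category.assoc]))

theorem bc_w {x' x : (fibCat f η).obj} (φ : x' ⟶ x) {g : sch (fibCat f η) x' ⟶ sch (fibCat f η) x}
    (hg : bmap (fibCat f η) φ = g) :
    bmap (fibCat f η') (bcMap m φ) ≫ bcπ m x = bcπ m x' ≫ g := by
  have h := congrArg (bmap (fibCat f η)) (bcMap_spec m φ)
  rw [bmap_comp, bmap_comp, hg] at h
  exact h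

variable (M : Mod (fibCat f η'))

/-- The comparison maps of the direct image. -/
def pushComp {x' x : (fibCat f η).obj} (φ : x' ⟶ x) {g : sch (fibCat f η) x' ⟶ sch (fibCat f η) x}
    (hg : bmap (fibCat f η) φ = g) :
    (Scheme.Modules.pushforward (bcπ m x)).obj (M.obj (bcObj m x)) ⟶
      (Scheme.Modules.pushforward g).obj ((Scheme.Modules.pushforward (bcπ m x')).obj (M.obj (bcObj m x'))) :=
  (Scheme.Modules.pushforward (bcπ m x)).map (M.map (bcMap m φ) rfl) ≫
    (sqIso (bc_w m φ hg)).hom.app (M.obj (bcObj m x'))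

theorem preimage_bc {x' x : (fibCat f η).obj} (φ : x' ⟶ x) {g : sch (fibCat f η) x' ⟶ sch (fibCat f η) x}
    (hg : bmap (fibCat f η) φ = g) (U : (sch (fibCat f η) x).Opens) :
    bcπ m x' ⁻¹ᵁ (g ⁻¹ᵁ U) = bmap (fibCat f η') (bcMap m φ) ⁻¹ᵁ (bcπ m x ⁻¹ᵁ U) := by
  rw [← Scheme.Hom.comp_preimage, ← Scheme.Hom.comp_preimage, bc_w m φ hg]

theorem pushComp_app {x' x : (fibCat f η).obj} (φ : x' ⟶ x) {g : sch (fibCat f η) x' ⟶ sch (fibCat f η) x}
    (hg : bmap (fibCat f η) φ = g) (U : (sch (fibCat f η) x).Opens) (t : Γ(M.obj (bcObj m x), bcπ m x ⁻¹ᵁ U)) :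
    (pushComp m M φ hg).app U t = (M.obj (bcObj m x')).presheaf.map (eqToHom (preimage_bc m φ hg U)).op
      ((M.map (bcMap m φ) rfl).app (bcπ m x ⁻¹ᵁ U) t) :=
  by
  simp only [pushComp, Scheme.Modules.Hom.comp_app]
  exact sqIso_app (bc_w m φ hg) _ U (preimage_bc m φ hg U) _

theorem pushComp_id (x : (fibCat f η).obj) (U : (sch (fibCat f η) x).Opens)
    (t : Γ(M.obj (bcObj m x), bcπ m x ⁻¹ᵁ U)) :
    (pushComp m M (𝟙 x) (bmap_id x)).app U t = t := by
  refine (pushComp_app m M (𝟙 x) (bmap_id x) U t).trans ?_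
  have e : bmap (fibCat f η') (bcMap m (𝟙 x)) ⁻¹ᵁ (bcπ m x ⁻¹ᵁ U) = bcπ m x ⁻¹ᵁ U := by
    rw [bcMap_id, bmap_id]; rfl
  refine (congrArg _ (map_app_of_eq_id M _ (bcMap_id m x) _ e t)).trans ?_
  refine (QCohLib.map_map' _ _ _ _).trans ?_
  exact congr($((M.obj (bcObj m x)).presheaf.map_id _) t)

theorem pushComp_comp {x'' x' x : (fibCat f η).obj} (ψ : x'' ⟶ x') (φ : x' ⟶ x)
    {h : sch (fibCat f η) x'' ⟶ sch (fibCat f η) x'} {g : sch (fibCat f η) x' ⟶ sch (fibCat f η) x}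
    (hh : bmap (fibCat f η) ψ = h) (hg : bmap (fibCat f η) φ = g)
    (hc : bmap (fibCat f η) (ψ ≫ φ) = h ≫ g) (U : (sch (fibCat f η) x).Opens)
    (t : Γ(M.obj (bcObj m x), bcπ m x ⁻¹ᵁ U)) :
    (pushComp m M (ψ ≫ φ) hc).app U t =
      (pushComp m M ψ hh).app (g ⁻¹ᵁ U) ((pushComp m M φ hg).app U t) := by
  have e : bmap (fibCat f η') (bcMap m (ψ ≫ φ)) ⁻¹ᵁ (bcπ m x ⁻¹ᵁ U) =
      bmap (fibCat f η') (bcMap m ψ) ⁻¹ᵁ (bmap (fibCat f η') (bcMap m φ) ⁻¹ᵁ (bcπ m x ⁻¹ᵁ U)) := by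
    rw [bcMap_comp, bmap_comp]; rfl
  refine (pushComp_app m M (ψ ≫ φ) hc U t).trans ?_
  refine (congrArg _ (map_app_of_eq_comp M _ _ _ (bcMap_comp m ψ φ) _ e t)).trans ?_
  refine Eq.trans ?_ (pushComp_app m M ψ hh (g ⁻¹ᵁ U) _).symm
  refine Eq.trans ?_ (congrArg (fun y => (M.obj (bcObj m x'')).presheaf.map (eqToHom (preimage_bc m ψ hh (g ⁻¹ᵁ U))).op
    ((M.map (bcMap m ψ) rfl).app (bcπ m x' ⁻¹ᵁ (g ⁻¹ᵁ U)) y)) (pushComp_app m M φ hg U t)).symm
  rw [QCohLib.app_map]
  erw [QCohLib.map_map', QCohLib.map_map']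
  rfl

attribute [local irreducible] pushComp

theorem pushComp_id_hom (x : (fibCat f η).obj) :
    pushComp m M (𝟙 x) (bmap_id x) ≫ (Scheme.Modules.pushforwardId (sch (fibCat f η) x)).hom.app
      ((Scheme.Modules.pushforward (bcπ m x)).obj (M.obj (bcObj m x))) = 𝟙 _ :=
  eq_id_of_app _ _ _ (pushComp_id m M x)

theorem pushComp_comp_hom {x'' x' x : (fibCat f η).obj} (ψ : x'' ⟶ x') (φ : x' ⟶ x)
    {h : sch (fibCat f η) x'' ⟶ sch (fibCat f η) x'} {g : sch (fibCat f η) x' ⟶ sch (fibCat f η) x}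
    (hh : bmap (fibCat f η) ψ = h) (hg : bmap (fibCat f η) φ = g)
    (hc : bmap (fibCat f η) (ψ ≫ φ) = h ≫ g) :
    pushComp m M (ψ ≫ φ) hc =
      pushComp m M φ hg ≫ (Scheme.Modules.pushforward g).map (pushComp m M ψ hh) ≫
        (Scheme.Modules.pushforwardComp h g).hom.app
          ((Scheme.Modules.pushforward (bcπ m x'')).obj (M.obj (bcObj m x''))) :=
  eq_comp_of_app _ _ _ (pushComp_comp m M ψ φ hh hg hc)

/-- The direct image. -/
def push : Mod (fibCat f η) where
  obj x := (Scheme.Modules.pushforward (bcπ m x)).obj (M.obj (bcObj m x))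
  map {x' x} φ {g} hg := pushComp m M φ hg
  map_id x := pushComp_id_hom m M x
  map_comp {x'' x' x} ψ φ {h g} hh hg := pushComp_comp_hom m M ψ φ hh hg _

theorem push_map {x' x : (fibCat f η).obj} (φ : x' ⟶ x) {g : sch (fibCat f η) x' ⟶ sch (fibCat f η) x}
    (hg : bmap (fibCat f η) φ = g) :
    (push m M).map φ hg = (Scheme.Modules.pushforward (bcπ m x)).map (M.map (bcMap m φ) rfl) ≫
      (sqIso (bc_w m φ hg)).hom.app (M.obj (bcObj m x')) := by
  show pushComp m M φ hg = _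
  rw [pushComp]

variable {M}

/-- The direct image of a morphism. -/
def pushMap {N : Mod (fibCat f η')} (u : M ⟶ N) : push m M ⟶ push m N where
  app x := (Scheme.Modules.pushforward (bcπ m x)).map (u.app (bcObj m x))
  comm {x' x} φ g hg := by
    rw [push_map, push_map, Category.assoc]
    erw [← (sqIso (bc_w m φ hg)).hom.naturality (u.app (bcObj m x'))]
    rw [Functor.comp_map, ← Category.assoc, ← Category.assoc, ← Functor.map_comp, ← Functor.map_comp, u.comm]

theorem isAffineHom_bcπ [IsAffine (sch 𝒴 η')] [IsAffine (sch 𝒴 η)] (x : (fibCat f η).obj) :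
    IsAffineHom (bcπ m x) :=
  MorphismProperty.of_isPullback (P := @IsAffineHom) (bc_sq m x).flip inferInstance

theorem isQCoh_push [IsAffine (sch 𝒴 η')] [IsAffine (sch 𝒴 η)] (hM : StMod.isQCoh (fibCat f η') M) :
    StMod.isQCoh (fibCat f η) (push m M) := by
  refine ⟨fun x' x φ g hg => ?_, fun x => ?_⟩
  · haveI := isAffineHom_bcπ m x
    haveI : Coh.IsQCoh (M.obj (bcObj m x)) := hM.2 _
    subst hg
    have H : IsPullback (bmap (fibCat f η') (bcMap m φ)) (bcπ m x') (bcπ m x) (bmap (fibCat f η) φ) := by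
      refine (IsPullback.of_right ?_ ((bc_w m φ rfl).trans rfl) (bc_sq m x).flip).flip.flip
      have h1 := (bc_sq m x').flip
      rw [← bmap_fibBase φ] at h1
      rw [bmap_fibBase (bcMap m φ)]
      exact h1
    haveI : Coh.IsQCoh ((Scheme.Modules.pushforward (bcπ m x)).obj (M.obj (bcObj m x))) :=
      QCohLib.isQCoh_pushforward _ _
    haveI hbc := RpushLib.isIso_bcMap_of H (M.obj (bcObj m x)) fun US UT hUS hUT hle =>
      RpushLib.bijective_bc_affine H (M.obj (bcObj m x)) hUS hUT hle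
    haveI : IsIso (adj M (bcMap m φ)) := hM.1 _ rfl
    have e : (push m M).map φ rfl = RpushLib.bcAdj H.w (M.obj (bcObj m x)) ≫
        (Scheme.Modules.pushforward (bmap (fibCat f η) φ)).map
          ((Scheme.Modules.pushforward (bcπ m x')).map (adj M (bcMap m φ))) := by
      have h1 : M.map (bcMap m φ) rfl =
          (Scheme.Modules.pullbackPushforwardAdjunction _).unit.app _ ≫
            (Scheme.Modules.pushforward (bmap (fibCat f η') (bcMap m φ))).map (adj M (bcMap m φ)) := by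
        refine Eq.trans ?_ (Adjunction.homEquiv_unit (Scheme.Modules.pullbackPushforwardAdjunction
          (bmap (fibCat f η') (bcMap m φ))) _ _ (adj M (bcMap m φ)))
        exact (Equiv.apply_symm_apply _ _).symm
      rw [push_map, h1, Functor.map_comp, Category.assoc]
      exact (congrArg (_ ≫ ·) ((sqIso (bc_w m φ rfl)).hom.naturality (adj M (bcMap m φ)))).trans
        (Category.assoc _ _ _).symm
    rw [e, Adjunction.homEquiv_naturality_right_symm]
    exact IsIso.comp_isIso' hbc inferInstance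
  · haveI := isAffineHom_bcπ m x
    haveI : Coh.IsQCoh (M.obj (bcObj m x)) := hM.2 _
    exact QCohLib.isQCoh_pushforward _ _

theorem push_descend {Ei : Mod 𝒳} (hE0 : (Mod.comap (fibFst f η) Ei).IsCartesian)
    (hE1 : (Mod.comap (fibFst f η') Ei).IsCartesian) (ψ : Mod.comap (fibFst f η) Ei ⟶ push m M)
    (h : ∀ x, (Mod.comap (fibFst f η') Ei).obj (bcObj m x) ⟶ M.obj (bcObj m x))
    (hh : ∀ x, (Mod.comap (fibFst f η) Ei).map (bcHom m x) rfl ≫
      (Scheme.Modules.pushforward (bcπ m x)).map (h x) = ψ.app x) {x' x : (fibCat f η).obj} (φ : x' ⟶ x) :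
    h x' = pull (Mod.comap (fibFst f η') Ei) M hE1 (bcMap m φ) (h x) := by
  let E0 := Mod.comap (fibFst f η) Ei
  let h' := pull (Mod.comap (fibFst f η') Ei) M hE1 (bcMap m φ) (h x)
  haveI : IsIso (adj E0 (bcHom m x')) := hE0 _ rfl
  haveI : IsIso (adj E0 φ) := hE0 φ rfl
  suffices H : E0.map φ rfl ≫ (Scheme.Modules.pushforward (bmap (fibCat f η) φ)).map
      (E0.map (bcHom m x') rfl ≫ (Scheme.Modules.pushforward (bcπ m x')).map h') =
      E0.map φ rfl ≫ (Scheme.Modules.pushforward (bmap (fibCat f η) φ)).map (ψ.app x') by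
    let A := Scheme.Modules.pullbackPushforwardAdjunction (bmap (fibCat f η) φ)
    let A' := Scheme.Modules.pullbackPushforwardAdjunction (bcπ m x')
    have H1 := congrArg (A.homEquiv _ _).symm H
    rw [Adjunction.homEquiv_naturality_right_symm, Adjunction.homEquiv_naturality_right_symm] at H1
    have H2 := (cancel_epi (adj E0 φ)).1 H1
    rw [← hh x'] at H2
    have H3 := congrArg (A'.homEquiv _ _).symm H2
    rw [Adjunction.homEquiv_naturality_right_symm, Adjunction.homEquiv_naturality_right_symm] at H3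
    exact ((cancel_epi (adj E0 (bcHom m x'))).1 H3).symm
  rw [ψ.comm φ rfl, ← hh x, push_map]
  exact map_sq E0 (bcHom m x') (bcHom m x) ((fibMap f m).map (bcMap m φ)) φ (bcMap_spec m φ) (bc_w m φ rfl)
    (M.map (bcMap m φ) rfl) h' (h x) (pull_comm (Mod.comap (fibFst f η') Ei) M hE1 (bcMap m φ) (h x) rfl)

theorem isGenFam_of_affine (m : η' ⟶ η) [IsAffine (sch 𝒴 η')] [IsAffine (sch 𝒴 η)] {ι : Type u} (E : ι → QCoh 𝒳)
    (h : IsGenFam (fun i => (comapQ (fibFst f η)).obj (E i))) :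
    IsGenFam (fun i => (comapQ (fibFst f η')).obj (E i)) := by
  rw [isGenFam_iff] at h ⊢
  intro M N u hu
  have h0 : (ObjectProperty.homMk (pushMap m u.hom) :
      (⟨push m M.obj, isQCoh_push m M.property⟩ : QCoh (fibCat f η)) ⟶ ⟨push m N.obj, isQCoh_push m N.property⟩) = 0 := by
    refine h _ fun i ψ => ?_
    let E1 := (comapQ (fibFst f η')).obj (E i)
    let E0 := (comapQ (fibFst f η)).obj (E i)
    have hEc := E1.property.1
    let h : ∀ x, E1.obj.obj (bcObj m x) ⟶ M.obj.obj (bcObj m x) := fun x =>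
      haveI : IsIso (adj E0.obj (bcHom m x)) := E0.property.1 _ rfl
      inv (adj E0.obj (bcHom m x)) ≫
        ((Scheme.Modules.pullbackPushforwardAdjunction (bcπ m x)).homEquiv _ _).symm (ψ.app x)
    have hh : ∀ x, E0.obj.map (bcHom m x) rfl ≫ (Scheme.Modules.pushforward (bcπ m x)).map (h x) = ψ.app x := by
      intro x
      haveI : IsIso (adj E0.obj (bcHom m x)) := E0.property.1 _ rfl
      have e : adj E0.obj (bcHom m x) ≫ h x =
          ((Scheme.Modules.pullbackPushforwardAdjunction (bcπ m x)).homEquiv _ _).symm (ψ.app x) :=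
        IsIso.hom_inv_id_assoc _ _
      have := congrArg ((Scheme.Modules.pullbackPushforwardAdjunction (bcπ m x)).homEquiv _ _) e
      rw [Adjunction.homEquiv_naturality_right, Equiv.apply_symm_apply] at this
      simpa [adj] using this
    have hc : ∀ {x' x} (φ : x' ⟶ x), h x' = pull E1.obj M.obj hEc (bcMap m φ) (h x) := fun {x' x} φ =>
      push_descend m E0.property.1 E1.property.1 ψ h hh φ
    let φa : ∀ z, E1.obj.obj z ⟶ M.obj.obj z := fun z =>
      pull E1.obj M.obj hEc (exists_bc_lift m (𝟙 ((fibMap f m).obj z))).choose (h _)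
    have hφ : ∀ {z' z} (g : z' ⟶ z), φa z' = pull E1.obj M.obj hEc g (φa z) := by
      intro z' z g
      show pull _ _ _ _ _ = pull _ _ _ g (pull _ _ _ _ _)
      rw [← pull_comp, hc ((fibMap f m).map g), ← pull_comp]
      congr 1
      refine bc_hom_ext m ?_
      rw [(fibMap f m).toFunctor.map_comp, (fibMap f m).toFunctor.map_comp, Category.assoc, Category.assoc,
        bcMap_spec, reassoc_of% (exists_bc_lift m (𝟙 ((fibMap f m).obj z'))).choose_spec,
        (exists_bc_lift m (𝟙 ((fibMap f m).obj z))).choose_spec, Category.comp_id]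
    let φ : E1.obj ⟶ M.obj := ⟨φa, fun {z' z} g b hb => by
      rw [hφ g]; exact pull_comm E1.obj M.obj hEc g (φa z) hb⟩
    refine Mod.hom_ext fun x => ?_
    have e : φa (bcObj m x) = h x := by
      show pull _ _ _ _ _ = _
      rw [hc (bcHom m x), ← pull_comp]
      refine Eq.trans ?_ (pull_id E1.obj M.obj hEc (h x))
      congr 1
      refine bc_hom_ext m ?_
      rw [(fibMap f m).toFunctor.map_comp, (fibMap f m).toFunctor.map_id, Category.assoc, bcMap_spec,
        reassoc_of% (exists_bc_lift m (𝟙 ((fibMap f m).obj (bcObj m x)))).choose_spec]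
      erw [Category.id_comp]
    have h1 : h x ≫ u.hom.app (bcObj m x) = 0 :=
      e ▸ congrArg (fun t : E1.obj ⟶ N.obj => t.app (bcObj m x)) (hu i φ)
    show ψ.app x ≫ (Scheme.Modules.pushforward (bcπ m x)).map (u.hom.app (bcObj m x)) = 0
    rw [← hh x, Category.assoc, ← Functor.map_comp, h1, Functor.map_zero, comp_zero]
  refine InducedCategory.hom_ext (Mod.hom_ext fun z => ?_)
  have haff : ∀ y : (fibCat f η').obj, IsAffine (sch (fibCat f η') y) → u.hom.app y = 0 := by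
    intro y hy
    let x := (fibMap f m).obj y
    haveI : IsAffine (sch (fibCat f η) x) := hy
    haveI : IsAffine (sch (fibCat f η') (bcObj m x)) := IsAffine.of_isPullback (bc_sq m x)
    haveI : Coh.IsQCoh (M.obj.obj (bcObj m x)) := M.property.2 _
    have h1 : (Scheme.Modules.pushforward (bcπ m x)).map (u.hom.app (bcObj m x)) = 0 :=
      congrArg (fun t : _ ⟶ (⟨push m N.obj, isQCoh_push m N.property⟩ : QCoh (fibCat f η)) => t.hom.app x) h0
    have h2 : u.hom.app (bcObj m x) = 0 :=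
      hom_ext_span (fun s => s) (by rw [Set.range_id']; exact Submodule.span_univ) fun s =>
        congr($(congrArg (fun t => Scheme.Modules.Hom.app t ⊤) h1) s)
    obtain ⟨σ, -⟩ := exists_bc_lift m (𝟙 x)
    rw [app_eq_pull M.obj N.obj M.property.1 σ, h2, pull_zero]
  choose y e k hk using fun j : (sch (fibCat f η') z).affineCover.I₀ =>
    fib_lift z _ ((sch (fibCat f η') z).affineCover.f j)
  refine eq_of_pull M.property.1 k (fun j => ?_) (fun s => ?_) N.property.1 fun j => ?_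
  · rw [hk]; infer_instance
  · obtain ⟨j, t, ht⟩ := (sch (fibCat f η') z).affineCover.exists_eq s
    refine ⟨j, (eqToIso (e j)).inv t, ?_⟩
    rw [hk]
    refine (Scheme.Hom.comp_apply _ _ _).trans ((congrArg _ ?_).trans ht)
    refine (Scheme.Hom.comp_apply (eqToIso (e j)).inv (eqToIso (e j)).hom t).symm.trans ?_
    rw [Iso.inv_hom_id]; rfl
  · rw [← app_eq_pull M.obj N.obj M.property.1]
    have ha : IsAffine (sch (fibCat f η') (y j)) := by rw [e j]; infer_instance
    rw [haff _ ha]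
    exact (pull_zero M.obj N.obj M.property.1 (k j)).symm

end GenDescLib
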