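import Groth.Agent.GenDescLib.Main
import Groth.Agent.GenDescLib.Atlas
import Groth.Agent.GenDescLib.Cover
import Groth.Agent.GenDescLib.Transfer

/-!
# Generating families descend along flat surjective families of stacks
-/

set_option autoImplicit false
set_option linter.style.haveILetI false
set_option backward.isDefEq.respectTransparency false
set_option backward.isDefEq.respectTransparency.types false

universe u

open CategoryTheory CategoryTheory.Limits AlgebraicGeometry AlgSp FibCat FibLib AlgStLib IsoNatLib IsoNatSepLib Opposite StMod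

noncomputable section

namespace GenDescLib

variable {S : Scheme.{u}} {𝒳 𝒴 : AlgSt.Cat S} [IsFibGrpd 𝒳.p] [IsFibGrpd 𝒴.p] {f : 𝒳 ⥤ᵇ 𝒴}

theorem isRelGenFam_of_flat_family (hfqc : AlgSt.IsQuasiCompactMor Scheme.fppfPrecoverage f)
    (hfqs : AlgSt.IsQuasiSeparatedMor f) {ι : Type u} (E : ι → QCoh 𝒳) (hE : ∀ i, (E i).obj.IsFinPres)
    {A : Type u} (𝒴' : A → AlgSt.Cat S) (h𝒴' : ∀ a, IsFibGrpd (𝒴' a).p) (v : ∀ a, 𝒴' a ⥤ᵇ 𝒴)
    (hfl : ∀ a, AlgSt.LocQ (AlgSp.LocP @Flat) (v a))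
    (hsurj : ∀ p : AlgSt.Points 𝒴, ∃ (a : A) (q : AlgSt.Points (𝒴' a)), AlgSt.Points.map (v a) q = p)
    (hgen : ∀ a, IsRelGenFam (FibCat.fpSnd f (v a))
      (fun i => (comapQ (FibCat.fpFst f (v a))).obj (E i))) :
    IsRelGenFam f E := by
  intro η hη
  haveI := hη
  obtain ⟨w0, r, p, q, hw0, hr, hW⟩ := exists_chartData hfqc hfqs η
  haveI := hw0
  haveI := hr
  have key : ∀ t : sch 𝒴 η, ∃ (a : A) (η' : (𝒴' a).obj) (m : (v a).obj η' ⟶ η),
      IsAffine (sch (𝒴' a) η') ∧ Flat (bmap 𝒴 m) ∧ t ∈ Set.range (bmap 𝒴 m) := fun t => by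
    obtain ⟨P, b, hb⟩ := exists_point_at η t
    obtain ⟨a, z, hz⟩ := hsurj (AlgSt.Points.mk P)
    haveI := h𝒴' a
    obtain ⟨η', m, h⟩ := exists_lift_near (Q := @Flat) (fun g hg => (inferInstance : Flat g))
      (fun g hg => (AlgSpLib.locP_yon_map_iff (P := @Flat) g).1 hg) (hfl a) η t P b hb z hz
    exact ⟨a, η', m, h⟩
  choose a η' m haff hflat hmem using key
  refine isGenFam_of_cover hW E (fun i => hE i w0.left) (fun t => (v (a t)).obj (η' t)) (fun t => ?_) m hflat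
    (fun t => ⟨t, hmem t⟩) fun t => ?_
  · rw [sch_obj_eq]; exact haff t
  · haveI := h𝒴' (a t)
    exact isGenFam_of_fibPush E (hgen (a t) (η' t) (haff t))

end GenDescLib
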